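import Mathlib

set_option autoImplicit false
universe u
open scoped TensorProduct

namespace Groth.Agent.GrSegreLib

theorem exists_finset_solutions {ι : Type} [Fintype ι] (L : (ι → ℕ) → ℤ)
    (hL : ∀ x y, L (x + y) = L x + L y) :
    ∃ S : Finset (ι → ℕ), (∀ x ∈ S, L x = 0) ∧
      ∀ x, L x = 0 → x ∈ AddSubmonoid.closure (S : Set (ι → ℕ)) := by
  classical
  let P : (ι → ℕ) → Prop := fun x => L x = 0 ∧ x ≠ 0
  have hfin : {x | Minimal P x}.Finite :=
    WellQuasiOrderedLE.finite_of_isAntichain (setOf_minimal_antichain P)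
  refine ⟨hfin.toFinset, fun x hx => ((hfin.mem_toFinset).mp hx).prop.1, ?_⟩
  suffices H : ∀ (n : ℕ) (x : ι → ℕ), ∑ i, x i = n → L x = 0 →
      x ∈ AddSubmonoid.closure (hfin.toFinset : Set (ι → ℕ)) from fun x => H _ x rfl
  intro n
  induction n using Nat.strong_induction_on with
  | _ n ih =>
    intro x hn hx
    by_cases h0 : x = 0
    · rw [h0]; exact AddSubmonoid.zero_mem _
    obtain ⟨m, hmx, hm⟩ := exists_minimal_le_of_wellFoundedLT P x ⟨hx, h0⟩
    have hadd : (x - m) + m = x := funext fun i => Nat.sub_add_cancel (hmx i)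
    have hd : L (x - m) = 0 := by
      have := hL (x - m) m
      rw [hadd, hx, hm.prop.1, add_zero] at this
      exact this.symm
    have hlt : ∑ i, (x - m) i < n := by
      rw [← hn]
      refine Finset.sum_lt_sum (fun i _ => Nat.sub_le _ _) ?_
      obtain ⟨i, hi⟩ := Function.ne_iff.mp hm.prop.2
      refine ⟨i, Finset.mem_univ _, ?_⟩
      have := hmx i
      simp only [Pi.zero_apply] at hi
      show x i - m i < x i
      exact Nat.sub_lt ((Nat.pos_of_ne_zero hi).trans_le (hmx i)) (Nat.pos_of_ne_zero hi)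
    have hmem : m ∈ AddSubmonoid.closure (hfin.toFinset : Set (ι → ℕ)) :=
      AddSubmonoid.subset_closure (hfin.mem_toFinset.mpr hm)
    rw [← hadd]
    exact AddSubmonoid.add_mem _ (ih _ hlt (x - m) rfl hd) hmem

variable {k R : Type u} [Field k] [CommRing R] [Algebra k R] (𝒜 : ℤ → Submodule k R)
  [GradedAlgebra 𝒜]

theorem exists_monomial_gens (hpos : ∀ n : ℤ, n < 0 → 𝒜 n = ⊥) [Algebra.FiniteType k R] :
    ∃ (ι : Type) (_ : Fintype ι) (a : ι → R) (d : ι → ℕ), (∀ i, a i ∈ 𝒜 (d i)) ∧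
      ∀ (n : ℤ) (x : R), x ∈ 𝒜 n → x ∈ Submodule.span k
        {y | ∃ α : ι → ℕ, (∑ i, ((α i * d i : ℕ) : ℤ)) = n ∧ y = ∏ i, a i ^ α i} := by
  classical
  obtain ⟨s, hs⟩ := (Algebra.FiniteType.out : (⊤ : Subalgebra k R).FG)
  let G : Finset (ℕ × R) := s.biUnion fun x =>
    (DirectSum.decompose 𝒜 x).support.image fun i => (i.toNat, (DirectSum.decompose 𝒜 x i : R))
  let e : G ≃ Fin G.card := G.equivFin
  let a : Fin G.card → R := fun i => ((e.symm i : G) : ℕ × R).2
  let d : Fin G.card → ℕ := fun i => ((e.symm i : G) : ℕ × R).1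
  have hG : ∀ p ∈ G, p.2 ∈ 𝒜 (p.1 : ℤ) := by
    intro p hp
    obtain ⟨x, -, hp⟩ := Finset.mem_biUnion.mp hp
    obtain ⟨i, hi, rfl⟩ := Finset.mem_image.mp hp
    have hmem := SetLike.coe_mem (DirectSum.decompose 𝒜 x i)
    have : 0 ≤ i := by
      by_contra h
      refine DFinsupp.mem_support_iff.mp hi (Subtype.ext ?_)
      exact (Submodule.mem_bot k).mp (SetLike.le_def.mp (hpos i (by omega)).le hmem)
    simpa [Int.toNat_of_nonneg this] using hmem
  refine ⟨Fin G.card, inferInstance, a, d, fun i => hG _ (e.symm i).2, fun n x hx => ?_⟩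
  have htop : Algebra.adjoin k (Set.range a) = ⊤ := by
    rw [eq_top_iff, ← hs, Algebra.adjoin_le_iff]
    intro y hy
    rw [← DirectSum.sum_support_decompose 𝒜 y]
    refine Subalgebra.sum_mem _ fun i hi => Algebra.subset_adjoin ?_
    have hp : (i.toNat, (DirectSum.decompose 𝒜 y i : R)) ∈ G :=
      Finset.mem_biUnion.mpr ⟨y, hy, Finset.mem_image.mpr ⟨i, hi, rfl⟩⟩
    exact ⟨e ⟨_, hp⟩, by simp [a]⟩
  obtain ⟨p, hp⟩ : x ∈ (MvPolynomial.aeval (R := k) a).range := by
    rw [← Algebra.adjoin_range_eq_range_aeval, htop]; exact Algebra.mem_top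
  have hproj : GradedAlgebra.proj 𝒜 n x = x := by
    rw [GradedAlgebra.proj_apply]; exact DirectSum.decompose_of_mem_same 𝒜 hx
  rw [← hproj, ← hp, AlgHom.toRingHom_eq_coe, RingHom.coe_coe, p.as_sum, map_sum, map_sum]
  refine Submodule.sum_mem _ fun α _ => ?_
  have hmon : (MvPolynomial.aeval a) (MvPolynomial.monomial α (p.coeff α)) =
      p.coeff α • ∏ i, a i ^ α i := by
    rw [MvPolynomial.aeval_monomial, Algebra.smul_def, Finsupp.prod_fintype _ _ fun _ => pow_zero _]
  have hmem : ∏ i, a i ^ α i ∈ 𝒜 (∑ i, ((α i * d i : ℕ) : ℤ)) := by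
    refine SetLike.prod_mem_graded (A := 𝒜) _ _ (fun i _ => ?_)
    have := SetLike.pow_mem_graded (A := 𝒜) (α i) (hG _ (e.symm i).2)
    simpa [a, d] using this
  rw [hmon, map_smul]
  refine Submodule.smul_mem _ _ ?_
  rw [GradedAlgebra.proj_apply]
  by_cases h : (∑ i, ((α i * d i : ℕ) : ℤ)) = n
  · rw [← h, DirectSum.decompose_of_mem_same 𝒜 hmem]
    exact Submodule.subset_span ⟨fun i => α i, rfl, rfl⟩
  · rw [DirectSum.decompose_of_mem_ne 𝒜 hmem h]
    exact Submodule.zero_mem _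

variable {S : Type u} [CommRing S] [Algebra k S] (ℬ : ℤ → Submodule k S) [GradedAlgebra ℬ]
  {T : Type u} [CommRing T] [Algebra k T] (𝒯 : ℤ → Submodule k T) [GradedAlgebra 𝒯]
  (ψ : T →ₐ[k] R ⊗[k] S)
  (hdegT : ∀ n : ℤ, (𝒯 n).map ψ.toLinearMap =
    Submodule.span k {x : R ⊗[k] S | ∃ a ∈ 𝒜 n, ∃ b ∈ ℬ n, x = a ⊗ₜ[k] b})
include hdegT

theorem tmul_mem_range {n : ℤ} {a : R} {b : S} (ha : a ∈ 𝒜 n) (hb : b ∈ ℬ n) :
    a ⊗ₜ[k] b ∈ ψ.range := by
  have : a ⊗ₜ[k] b ∈ (𝒯 n).map ψ.toLinearMap := by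
    rw [hdegT]; exact Submodule.subset_span ⟨a, ha, b, hb, rfl⟩
  obtain ⟨t, -, ht⟩ := this
  exact ⟨t, ht⟩

theorem range_induction {p : R ⊗[k] S → Prop} (zero : p 0) (add : ∀ x y, p x → p y → p (x + y))
    (smul : ∀ (c : k) x, p x → p (c • x))
    (tmul : ∀ (n : ℤ) (a : R) (b : S), a ∈ 𝒜 n → b ∈ ℬ n → p (a ⊗ₜ[k] b)) (t : T) : p (ψ t) := by
  classical
  rw [← DirectSum.sum_support_decompose 𝒯 t, map_sum]
  refine Finset.sum_induction _ p add zero fun i _ => ?_
  have : ψ (DirectSum.decompose 𝒯 t i : T) ∈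
      Submodule.span k {x : R ⊗[k] S | ∃ a ∈ 𝒜 i, ∃ b ∈ ℬ i, x = a ⊗ₜ[k] b} := by
    rw [← hdegT i]; exact ⟨_, SetLike.coe_mem _, rfl⟩
  generalize ψ (DirectSum.decompose 𝒯 t i : T) = z at this ⊢
  induction this using Submodule.span_induction with
  | mem x hx => obtain ⟨a, ha, b, hb, rfl⟩ := hx; exact tmul i a b ha hb
  | zero => exact zero
  | add x y _ _ hx hy => exact add x y hx hy
  | smul c x _ hx => exact smul c x hx

theorem finiteType (hψ : Function.Injective ψ) (hposR : ∀ n : ℤ, n < 0 → 𝒜 n = ⊥)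
    (hposS : ∀ n : ℤ, n < 0 → ℬ n = ⊥) [Algebra.FiniteType k R] [Algebra.FiniteType k S] :
    Algebra.FiniteType k T := by
  classical
  obtain ⟨ι, _, a, d, ha, hspanR⟩ := exists_monomial_gens 𝒜 hposR
  obtain ⟨κ, _, b, e, hb, hspanS⟩ := exists_monomial_gens ℬ hposS
  let L : (ι ⊕ κ → ℕ) → ℤ := fun x =>
    (∑ i, ((x (Sum.inl i) * d i : ℕ) : ℤ)) - ∑ j, ((x (Sum.inr j) * e j : ℕ) : ℤ)
  obtain ⟨F, hF, hgen⟩ := exists_finset_solutions L (fun x y => by
    simp only [L, Pi.add_apply, add_mul, Nat.cast_add, Finset.sum_add_distrib]; ring)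
  let m : (ι ⊕ κ → ℕ) → R ⊗[k] S := fun x =>
    (∏ i, a i ^ x (Sum.inl i)) ⊗ₜ[k] (∏ j, b j ^ x (Sum.inr j))
  let G := Algebra.adjoin k ((F.image m : Finset (R ⊗[k] S)) : Set (R ⊗[k] S))
  have hm : ∀ x, L x = 0 → m x ∈ G := by
    intro x hx
    replace hx := hgen x hx
    induction hx using AddSubmonoid.closure_induction with
    | mem x hx => exact Algebra.subset_adjoin (Finset.mem_coe.mpr (Finset.mem_image_of_mem m hx))
    | zero => simp only [m, Pi.zero_apply, pow_zero, Finset.prod_const_one]; exact G.one_mem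
    | add x y _ _ hx hy =>
      have : m (x + y) = m x * m y := by
        simp only [m, Pi.add_apply, pow_add, Finset.prod_mul_distrib,
          Algebra.TensorProduct.tmul_mul_tmul]
      rw [this]
      exact G.mul_mem hx hy
  have heq : ψ.range = G := by
    refine le_antisymm ?_ (Algebra.adjoin_le fun y hy => ?_)
    · rintro _ ⟨t, rfl⟩
      refine range_induction 𝒜 ℬ 𝒯 ψ hdegT G.zero_mem (fun x y => G.add_mem)
        (fun c x hx => G.smul_mem hx c) (fun n u v hu hv => ?_) t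
      replace hu := hspanR n u hu
      induction hu using Submodule.span_induction with
      | mem x hx =>
        obtain ⟨α, hα, rfl⟩ := hx
        replace hv := hspanS n v hv
        induction hv using Submodule.span_induction with
        | mem y hy =>
          obtain ⟨β, hβ, rfl⟩ := hy
          exact hm (Sum.elim α β) (by simp only [L, Sum.elim_inl, Sum.elim_inr, hα, hβ, sub_self])
        | zero => rw [TensorProduct.tmul_zero]; exact G.zero_mem
        | add y z _ _ hy hz => rw [TensorProduct.tmul_add]; exact G.add_mem hy hz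
        | smul c y _ hy => rw [TensorProduct.tmul_smul]; exact G.smul_mem hy c
      | zero => rw [TensorProduct.zero_tmul]; exact G.zero_mem
      | add y z _ _ hy hz => rw [TensorProduct.add_tmul]; exact G.add_mem hy hz
      | smul c y _ hy => rw [← TensorProduct.smul_tmul']; exact G.smul_mem hy c
    · obtain ⟨x, hx, rfl⟩ := Finset.mem_image.mp (Finset.mem_coe.mp hy)
      have h0 := hF x hx
      refine tmul_mem_range 𝒜 ℬ 𝒯 ψ hdegT (n := ∑ i, ((x (Sum.inl i) * d i : ℕ) : ℤ)) ?_ ?_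
      · refine SetLike.prod_mem_graded (A := 𝒜) _ _ (fun i _ => ?_)
        simpa using SetLike.pow_mem_graded (x (Sum.inl i)) (ha i)
      · rw [sub_eq_zero.mp h0]
        refine SetLike.prod_mem_graded (A := ℬ) _ _ (fun j _ => ?_)
        simpa using SetLike.pow_mem_graded (x (Sum.inr j)) (hb j)
  have hG : G.FG := ⟨F.image m, rfl⟩
  have : Algebra.FiniteType k ψ.range := by
    rw [heq]; exact (Subalgebra.fg_iff_finiteType G).mp hG
  exact this.equiv (AlgEquiv.ofInjective ψ hψ).symm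

end Groth.Agent.GrSegreLib
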