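import Mathlib

set_option autoImplicit false
universe u

namespace Groth.Agent.GrSegreLib

variable {k R : Type u} [Field k] [CommRing R] [Algebra k R] (𝒜 : ℤ → Submodule k R)
  [GradedAlgebra 𝒜]

/-- The homomorphism sending a homogeneous `a` of degree `n` to `f a · t ^ (e n)`. -/
noncomputable def evalHom {K : Type u} [CommRing K] [Algebra k K] (f : R →ₐ[k] K) (e : ℤ →+ ℤ) :
    R →ₐ[k] AddMonoidAlgebra K ℤ :=
  (DirectSum.toAlgebra k (fun i => 𝒜 i)
    (fun i => ((AddMonoidAlgebra.lsingle (e i) : K →ₗ[K] AddMonoidAlgebra K ℤ).restrictScalars k) ∘ₗ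
      f.toLinearMap ∘ₗ (𝒜 i).subtype)
    (by
      change AddMonoidAlgebra.single (e 0) (f (1 : R)) = 1
      rw [map_zero, map_one]; rfl)
    (fun {i j} ai aj => by
      change AddMonoidAlgebra.single (e (i + j)) (f ((ai : R) * (aj : R))) =
        AddMonoidAlgebra.single (e i) (f (ai : R)) * AddMonoidAlgebra.single (e j) (f (aj : R))
      rw [AddMonoidAlgebra.single_mul_single, map_add, map_mul])).comp
    (DirectSum.decomposeAlgEquiv 𝒜).toAlgHom

theorem evalHom_of_mem {K : Type u} [CommRing K] [Algebra k K] (f : R →ₐ[k] K) (e : ℤ →+ ℤ)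
    {n : ℤ} {a : R} (ha : a ∈ 𝒜 n) :
    evalHom 𝒜 f e a = AddMonoidAlgebra.single (e n) (f a) := by
  have h : DirectSum.decomposeAlgEquiv 𝒜 a = DirectSum.of (fun i => 𝒜 i) n ⟨a, ha⟩ :=
    DirectSum.decompose_of_mem 𝒜 ha
  unfold evalHom
  rw [AlgHom.comp_apply]
  erw [h]
  exact DirectSum.toAddMonoid_of (fun i =>
    (((AddMonoidAlgebra.lsingle (e i) : K →ₗ[K] AddMonoidAlgebra K ℤ).restrictScalars k) ∘ₗ
      f.toLinearMap ∘ₗ (𝒜 i).subtype).toAddMonoidHom) n ⟨a, ha⟩

/-- Evaluation at `t = 1`. -/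
noncomputable def evalOne (k K : Type u) [CommRing k] [CommRing K] [Algebra k K] :
    AddMonoidAlgebra K ℤ →ₐ[k] K :=
  (AddMonoidAlgebra.lift K K ℤ 1).restrictScalars k

theorem evalOne_single {K : Type u} [CommRing K] [Algebra k K] (n : ℤ) (x : K) :
    evalOne k K (AddMonoidAlgebra.single n x) = x := by
  change AddMonoidAlgebra.lift K K ℤ 1 (AddMonoidAlgebra.single n x) = x
  rw [AddMonoidAlgebra.lift_single]
  simp

theorem evalOne_comp_evalHom {K : Type u} [CommRing K] [Algebra k K] (f : R →ₐ[k] K) (e : ℤ →+ ℤ) :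
    (evalOne k K).comp (evalHom 𝒜 f e) = f := by
  classical
  ext a
  conv_lhs => rw [← DirectSum.sum_support_decompose 𝒜 a]
  conv_rhs => rw [← DirectSum.sum_support_decompose 𝒜 a]
  rw [map_sum, map_sum]
  refine Finset.sum_congr rfl fun i _ => ?_
  rw [AlgHom.comp_apply, evalHom_of_mem 𝒜 f e (SetLike.coe_mem _), evalOne_single]

/-- The degree `n` component of a linear combination. -/
theorem proj_of_mem {n m : ℤ} {a : R} (ha : a ∈ 𝒜 m) :
    GradedAlgebra.proj 𝒜 n a = if m = n then a else 0 := by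
  rw [GradedAlgebra.proj_apply]
  split_ifs with h
  · subst h; exact DirectSum.decompose_of_mem_same 𝒜 ha
  · exact DirectSum.decompose_of_mem_ne 𝒜 ha h

/-- Every component of an element of a minimal prime lies in it. -/
theorem component_mem_minimalPrimes {P : Ideal R} (hP : P ∈ minimalPrimes R) {a : R} (ha : a ∈ P)
    (n : ℤ) : GradedAlgebra.proj 𝒜 n a ∈ P := by
  classical
  haveI : P.IsPrime := hP.1.1
  let K := FractionRing (R ⧸ P)
  let f : R →ₐ[k] K := (IsScalarTower.toAlgHom k (R ⧸ P) K).comp (Ideal.Quotient.mkₐ k P)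
  have hf : ∀ x, f x = 0 ↔ x ∈ P := fun x => by
    change algebraMap (R ⧸ P) K (Ideal.Quotient.mk P x) = 0 ↔ _
    rw [map_eq_zero_iff _ (IsFractionRing.injective (R ⧸ P) K), Ideal.Quotient.eq_zero_iff_mem]
  let ψ := evalHom 𝒜 f (AddMonoidHom.id ℤ)
  have hle : RingHom.ker ψ ≤ P := fun x hx => (hf x).mp (by
    rw [← evalOne_comp_evalHom 𝒜 f (AddMonoidHom.id ℤ), AlgHom.comp_apply]
    rw [RingHom.mem_ker] at hx
    exact (congrArg _ hx).trans (map_zero _))
  haveI : (RingHom.ker ψ).IsPrime := RingHom.ker_isPrime ψ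
  have heq : RingHom.ker ψ = P := le_antisymm hle (hP.2 ⟨inferInstance, bot_le⟩ hle)
  have h0 : ψ a = 0 := by rw [← RingHom.mem_ker, heq]; exact ha
  rw [← hf]
  conv at h0 => lhs; rw [← DirectSum.sum_support_decompose 𝒜 a]
  rw [map_sum] at h0
  have h1 := congrArg (fun p => AddMonoidAlgebra.coeff p n) h0
  simp only [ψ, evalHom_of_mem 𝒜 f _ (SetLike.coe_mem _)] at h1
  simp only [AddMonoidAlgebra.coeff_sum, Finsupp.finsetSum_apply, AddMonoidHom.id_apply,
    AddMonoidAlgebra.coeff_single, Finsupp.single_apply, Finset.sum_ite_eq', AddMonoidAlgebra.coeff_zero,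
    Finsupp.coe_zero, Pi.zero_apply] at h1
  rw [GradedAlgebra.proj_apply]
  split_ifs at h1 with h
  · exact h1
  · rw [DFinsupp.notMem_support_iff.mp h, ZeroMemClass.coe_zero, map_zero]

variable (h0 : 𝒜 0 = Submodule.span k {(1 : R)}) (hpos : ∀ n : ℤ, n < 0 → 𝒜 n = ⊥)
include h0 hpos

/-- A prime of positive dimension misses some homogeneous element of positive degree. -/
theorem exists_pos_deg_notMem (P : Ideal R) [P.IsPrime] (h : 0 < ringKrullDim (R ⧸ P)) :
    ∃ (n : ℤ) (u : R), 0 < n ∧ u ∈ 𝒜 n ∧ u ∉ P := by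
  classical
  by_contra! hc
  have hsurj : Function.Surjective (algebraMap k (R ⧸ P)) := by
    intro x
    obtain ⟨a, rfl⟩ := Ideal.Quotient.mk_surjective x
    rw [← RingHom.mem_range, ← DirectSum.sum_support_decompose 𝒜 a, map_sum]
    refine Subring.sum_mem _ fun i _ => ?_
    have hmem := SetLike.coe_mem (DirectSum.decompose 𝒜 a i)
    rcases lt_trichotomy i 0 with hi | hi | hi
    · have h' : (DirectSum.decompose 𝒜 a i : R) ∈ (⊥ : Submodule k R) := hpos i hi ▸ hmem
      rw [(Submodule.mem_bot k).mp h', map_zero]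
      exact Subring.zero_mem _
    · subst hi
      obtain ⟨c, hc'⟩ := Submodule.mem_span_singleton.mp (SetLike.le_def.mp h0.le hmem)
      exact ⟨c, by rw [← hc', Algebra.smul_def, mul_one]; rfl⟩
    · rw [Ideal.Quotient.eq_zero_iff_mem.mpr (hc i _ hi hmem)]
      exact Subring.zero_mem _
  have := ringKrullDim_le_of_surjective _ hsurj
  rw [ringKrullDim_eq_zero_of_field] at this
  exact absurd (h.trans_le this) (lt_irrefl _)

end Groth.Agent.GrSegreLib
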