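import Mathlib
import Groth.Agent.DimTheory.Algebra
import Groth.Agent.GrSegreLib.GradedHom
import Groth.Agent.GrSegreLib.Gen

set_option autoImplicit false
universe u
open scoped TensorProduct

namespace Groth.Agent.GrSegreLib

theorem isIntegral_map {k P₁ P₂ R S : Type u} [CommRing k] [CommRing P₁] [CommRing P₂] [CommRing R]
    [CommRing S] [Algebra k P₁] [Algebra k P₂] [Algebra k R] [Algebra k S] (g : P₁ →ₐ[k] R)
    (h : P₂ →ₐ[k] S) (hg : g.toRingHom.IsIntegral) (hh : h.toRingHom.IsIntegral) :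
    (Algebra.TensorProduct.map g h).toRingHom.IsIntegral := by
  intro x
  induction x using TensorProduct.induction_on with
  | zero => exact RingHom.isIntegralElem_zero _
  | add x y hx hy => exact RingHom.IsIntegralElem.add _ hx hy
  | tmul a b =>
    rw [show a ⊗ₜ[k] b = (a ⊗ₜ[k] (1 : S)) * ((1 : R) ⊗ₜ[k] b) by simp]
    refine RingHom.IsIntegralElem.mul _ ?_ ?_
    · obtain ⟨p, hp, hpa⟩ := hg a
      refine ⟨p.map (Algebra.TensorProduct.includeLeftRingHom : P₁ →+* P₁ ⊗[k] P₂), hp.map _, ?_⟩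
      have e : (Algebra.TensorProduct.map g h).toRingHom.comp
          (Algebra.TensorProduct.includeLeftRingHom : P₁ →+* P₁ ⊗[k] P₂) =
          (Algebra.TensorProduct.includeLeftRingHom : R →+* R ⊗[k] S).comp g.toRingHom := by
        ext y; simp
      rw [Polynomial.eval₂_map, e]
      have := Polynomial.hom_eval₂ p g.toRingHom
        (Algebra.TensorProduct.includeLeftRingHom : R →+* R ⊗[k] S) a
      rw [hpa, map_zero] at this
      exact this.symm
    · obtain ⟨p, hp, hpb⟩ := hh b
      let iR : S →+* R ⊗[k] S := (Algebra.TensorProduct.includeRight : S →ₐ[k] R ⊗[k] S).toRingHom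
      refine ⟨p.map (Algebra.TensorProduct.includeRight : P₂ →ₐ[k] P₁ ⊗[k] P₂).toRingHom, hp.map _, ?_⟩
      have e : (Algebra.TensorProduct.map g h).toRingHom.comp
          (Algebra.TensorProduct.includeRight : P₂ →ₐ[k] P₁ ⊗[k] P₂).toRingHom = iR.comp h.toRingHom := by
        ext y; simp [iR]
      rw [Polynomial.eval₂_map, e]
      have := Polynomial.hom_eval₂ p h.toRingHom iR b
      rw [hpb, map_zero] at this
      exact this.symm

variable (k : Type u) [Field k]

theorem ringKrullDim_mvPolynomial_fintype (σ : Type) [Fintype σ] :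
    ringKrullDim (MvPolynomial σ k) = Fintype.card σ := by
  rw [ringKrullDim_eq_of_ringEquiv
    (MvPolynomial.renameEquiv k (Fintype.equivFin σ)).toRingEquiv,
    DimTheory.ringKrullDim_mvPolynomial_fin]

/-- Simultaneous Noether normalization of a tensor product. -/
theorem exists_normalization_tensor (R S : Type u) [CommRing R] [CommRing S] [Algebra k R]
    [Algebra k S] [Algebra.FiniteType k R] [Algebra.FiniteType k S] (r s : ℕ)
    (hr : ringKrullDim R = r) (hs : ringKrullDim S = s) :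
    ∃ (g : MvPolynomial (Fin r) k →ₐ[k] R) (h : MvPolynomial (Fin s) k →ₐ[k] S),
      Function.Injective g ∧ g.toRingHom.IsIntegral ∧ Function.Injective h ∧
      h.toRingHom.IsIntegral ∧ Function.Injective (Algebra.TensorProduct.map g h) ∧
      (Algebra.TensorProduct.map g h).toRingHom.IsIntegral := by
  haveI : Nontrivial R := by
    by_contra hn
    rw [not_nontrivial_iff_subsingleton] at hn
    rw [ringKrullDim_eq_bot_of_subsingleton] at hr
    simp at hr
  haveI : Nontrivial S := by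
    by_contra hn
    rw [not_nontrivial_iff_subsingleton] at hn
    rw [ringKrullDim_eq_bot_of_subsingleton] at hs
    simp at hs
  obtain ⟨n, g, hg, hgf, hn⟩ := DimTheory.exists_normalization k R
  obtain ⟨m, h, hh, hhf, hm⟩ := DimTheory.exists_normalization k S
  rw [hr] at hn; rw [hs] at hm
  obtain rfl : r = n := by exact_mod_cast hn
  obtain rfl : s = m := by exact_mod_cast hm
  refine ⟨g, h, hg, RingHom.IsIntegral.of_finite hgf, hh, RingHom.IsIntegral.of_finite hhf, ?_,
    isIntegral_map g h (RingHom.IsIntegral.of_finite hgf) (RingHom.IsIntegral.of_finite hhf)⟩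
  exact TensorProduct.map_injective_of_flat_flat g.toLinearMap h.toLinearMap hg hh

theorem dim_polyTensor (r s : ℕ) :
    ringKrullDim (MvPolynomial (Fin r) k ⊗[k] MvPolynomial (Fin s) k) = (r + s : ℕ) := by
  rw [ringKrullDim_eq_of_ringEquiv (MvPolynomial.tensorEquivSum k (Fin r) (Fin s) k).toRingEquiv,
    ringKrullDim_mvPolynomial_fintype, Fintype.card_sum, Fintype.card_fin, Fintype.card_fin]

instance isDomain_polyTensor (r s : ℕ) :
    IsDomain (MvPolynomial (Fin r) k ⊗[k] MvPolynomial (Fin s) k) :=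
  MulEquiv.isDomain _ (MvPolynomial.tensorEquivSum k (Fin r) (Fin s) k).toMulEquiv

variable {k} {R S : Type u} [CommRing R] [CommRing S] [Algebra k R] [Algebra k S]
  [Algebra.FiniteType k R] [Algebra.FiniteType k S]

theorem dim_tensor (r s : ℕ) (hr : ringKrullDim R = r) (hs : ringKrullDim S = s) :
    ringKrullDim (R ⊗[k] S) = (r + s : ℕ) := by
  obtain ⟨g, h, -, -, -, -, hinj, hint⟩ := exists_normalization_tensor k R S r s hr hs
  algebraize [(Algebra.TensorProduct.map g h).toRingHom]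
  have : Algebra.IsIntegral (MvPolynomial (Fin r) k ⊗[k] MvPolynomial (Fin s) k) (R ⊗[k] S) := ⟨hint⟩
  have : FaithfulSMul (MvPolynomial (Fin r) k ⊗[k] MvPolynomial (Fin s) k) (R ⊗[k] S) :=
    (faithfulSMul_iff_algebraMap_injective _ _).2 hinj
  rw [DimTheory.ringKrullDim_eq_of_integral (MvPolynomial (Fin r) k ⊗[k] MvPolynomial (Fin s) k)
    (R ⊗[k] S), dim_polyTensor]

/-- For domains there is a prime of the tensor product of full dimension missing all pure tensors
with one unit factor. -/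
theorem exists_prime_tensor_full [IsDomain R] [IsDomain S] (r s : ℕ) (hr : ringKrullDim R = r)
    (hs : ringKrullDim S = s) :
    ∃ (P : Ideal (R ⊗[k] S)) (_ : P.IsPrime), ringKrullDim ((R ⊗[k] S) ⧸ P) = (r + s : ℕ) ∧
      (∀ a : R, a ≠ 0 → a ⊗ₜ[k] (1 : S) ∉ P) ∧ ∀ b : S, b ≠ 0 → (1 : R) ⊗ₜ[k] b ∉ P := by
  obtain ⟨g, h, hg, hgi, hh, hhi, hinj, hint⟩ := exists_normalization_tensor k R S r s hr hs
  set G := Algebra.TensorProduct.map g h
  algebraize [G.toRingHom]
  let B := MvPolynomial (Fin r) k ⊗[k] MvPolynomial (Fin s) k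
  have : Algebra.IsIntegral B (R ⊗[k] S) := ⟨hint⟩
  have : FaithfulSMul B (R ⊗[k] S) :=
    (faithfulSMul_iff_algebraMap_injective _ _).2 hinj
  obtain ⟨P, -, hP, hPc⟩ := Ideal.exists_ideal_over_prime_of_isIntegral (R := B) (S := R ⊗[k] S)
    ⊥ ⊥ (by
      rw [← RingHom.ker_eq_comap_bot, (RingHom.injective_iff_ker_eq_bot _).1
        (FaithfulSMul.algebraMap_injective B (R ⊗[k] S))])
  have hzero : ∀ y : B, G y ∈ P → y = 0 := fun y hy => by
    have : y ∈ Ideal.comap (algebraMap B (R ⊗[k] S)) P := hy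
    rw [hPc] at this
    exact this
  refine ⟨P, hP, ?_, fun a ha hmem => ?_, fun b hb hmem => ?_⟩
  · algebraize [(Ideal.Quotient.mk P).comp G.toRingHom]
    have : Algebra.IsIntegral B ((R ⊗[k] S) ⧸ P) :=
      ⟨RingHom.IsIntegral.trans _ _ hint (Ideal.Quotient.mk P |>.isIntegral_of_surjective
        Ideal.Quotient.mk_surjective)⟩
    have : FaithfulSMul B ((R ⊗[k] S) ⧸ P) :=
      (faithfulSMul_iff_algebraMap_injective _ _).2 ((injective_iff_map_eq_zero _).2 fun y hy =>
        hzero y (Ideal.Quotient.eq_zero_iff_mem.mp hy))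
    rw [DimTheory.ringKrullDim_eq_of_integral B ((R ⊗[k] S) ⧸ P), dim_polyTensor]
  · algebraize [g.toRingHom]
    have : Algebra.IsIntegral (MvPolynomial (Fin r) k) R := ⟨hgi⟩
    obtain ⟨p, hp0, w, hw⟩ := (Algebra.IsAlgebraic.isAlgebraic (R := MvPolynomial (Fin r) k) a).exists_nonzero_dvd
      (mem_nonZeroDivisors_of_ne_zero ha)
    refine hp0 ((Algebra.TensorProduct.includeLeft_injective (S := k) (B := MvPolynomial (Fin s) k)
      (FaithfulSMul.algebraMap_injective k _)) ?_)
    rw [map_zero]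
    refine hzero _ ?_
    have : G (p ⊗ₜ[k] 1) = (a ⊗ₜ[k] (1 : S)) * (w ⊗ₜ[k] 1) := by
      rw [Algebra.TensorProduct.map_tmul, map_one, Algebra.TensorProduct.tmul_mul_tmul, one_mul]
      exact congrArg (· ⊗ₜ[k] (1 : S)) hw
    exact this ▸ P.mul_mem_right _ hmem
  · algebraize [h.toRingHom]
    have : Algebra.IsIntegral (MvPolynomial (Fin s) k) S := ⟨hhi⟩
    obtain ⟨p, hp0, w, hw⟩ := (Algebra.IsAlgebraic.isAlgebraic (R := MvPolynomial (Fin s) k) b).exists_nonzero_dvd
      (mem_nonZeroDivisors_of_ne_zero hb)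
    refine hp0 ((Algebra.TensorProduct.includeRight_injective (R := k) (A := MvPolynomial (Fin r) k)
      (FaithfulSMul.algebraMap_injective k _)) ?_)
    rw [map_zero]
    refine hzero _ ?_
    have : G ((1 : MvPolynomial (Fin r) k) ⊗ₜ[k] p) = ((1 : R) ⊗ₜ[k] b) * ((1 : R) ⊗ₜ[k] w) := by
      rw [Algebra.TensorProduct.map_tmul, map_one, Algebra.TensorProduct.tmul_mul_tmul, one_mul]
      exact congrArg ((1 : R) ⊗ₜ[k] ·) hw
    exact this ▸ P.mul_mem_right _ hmem

/-- Some minimal prime achieves the dimension. -/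
theorem exists_minimalPrime_dim {A : Type u} [CommRing A] {n : ℕ} (hA : ringKrullDim A = n) :
    ∃ P ∈ minimalPrimes A, ringKrullDim (A ⧸ P) = n := by
  haveI : Nonempty (PrimeSpectrum A) := by
    by_contra hn
    rw [not_nonempty_iff] at hn
    simp [ringKrullDim, Order.krullDim_eq_bot] at hA
  obtain ⟨l, hl⟩ := (Order.le_krullDim_iff (α := PrimeSpectrum A) (n := n)).mp hA.ge
  obtain ⟨P, hP, hle⟩ := Ideal.exists_minimalPrimes_le (J := l.head.asIdeal) (bot_le : ⊥ ≤ l.head.asIdeal)
  refine ⟨P, hP, le_antisymm ?_ ?_⟩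
  · exact (ringKrullDim_quotient_le P).trans hA.le
  · rw [ringKrullDim_quotient, Order.le_krullDim_iff]
    have hmem : ∀ i, l i ∈ PrimeSpectrum.zeroLocus (P : Set A) := fun i =>
      hle.trans (show l.head.asIdeal ≤ (l i).asIdeal from LTSeries.head_le l i)
    exact ⟨⟨l.length, fun i => ⟨l i, hmem i⟩, fun i => l.step i⟩, hl⟩

theorem dim_le_of_minimalPrimes {A : Type u} [CommRing A] {n : WithBot ℕ∞}
    (h : ∀ P ∈ minimalPrimes A, ringKrullDim (A ⧸ P) ≤ n) : ringKrullDim A ≤ n := by
  refine iSup_le fun l => ?_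
  obtain ⟨P, hP, hle⟩ := Ideal.exists_minimalPrimes_le (J := l.head.asIdeal) (bot_le : ⊥ ≤ l.head.asIdeal)
  refine le_trans ?_ (h P hP)
  rw [ringKrullDim_quotient]
  have hmem : ∀ i, l i ∈ PrimeSpectrum.zeroLocus (P : Set A) := fun i =>
    hle.trans (show l.head.asIdeal ≤ (l i).asIdeal from LTSeries.head_le l i)
  exact Order.LTSeries.length_le_krullDim
    (⟨l.length, fun i => ⟨l i, hmem i⟩, fun i => l.step i⟩ : LTSeries (PrimeSpectrum.zeroLocus (P : Set A)))

end Groth.Agent.GrSegreLib
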