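import Mathlib
import Groth.Prelude.Def_CAlg
import Groth.Agent.GrSegreLib.GradedHom
import Groth.Agent.GrSegreLib.Dim
import Groth.Agent.GrassLib.CMQuot
import Groth.Agent.Depth.CM

/-! Positively graded algebras over a field with one-dimensional degree zero part. -/

set_option autoImplicit false
universe u

open LocCoh

namespace Groth.Agent.PosGr

open IsLocalRing in
theorem height_eq_zero_of_mem_assPrimes {G : Type u} [CommRing G] [IsCohenMacaulayRing G]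
    {q : Ideal G} (hq : q ∈ associatedPrimes G G) : q.height = 0 := by
  have := hq.isPrime
  have := IsCohenMacaulayRing.isCohenMacaulayLocalRing_localization (R := G) q
  have h1 : maximalIdeal (Localization.AtPrime q) ∈ associatedPrimes (Localization.AtPrime q) (Localization.AtPrime q) := by
    have h := Module.associatedPrimes.mem_associatedPrimes_atPrime_of_mem_associatedPrimes hq
    rwa [LinearEquiv.AssociatedPrimes.eq (Depth.localizedSelfEquiv q.primeCompl)] at h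
  have h2 : LocCoh.depth (Localization.AtPrime q) (Localization.AtPrime q) = 0 := Depth.depth_eq_zero_iff.2 h1
  have h3 := Depth.ringKrullDim_eq_depth (R := Localization.AtPrime q)
  rw [h2, IsLocalization.AtPrime.ringKrullDim_eq_height q (Localization.AtPrime q)] at h3
  exact WithBot.coe_inj.1 h3

variable {k R : Type u} [Field k] [CommRing R] [Algebra k R] (𝒜 : ℤ → Submodule k R) [GradedAlgebra 𝒜]

/-- The homogeneous component. -/
noncomputable abbrev cmp (n : ℤ) : R →ₗ[k] R := GradedAlgebra.proj 𝒜 n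

theorem cmp_mem (n : ℤ) (a : R) : cmp 𝒜 n a ∈ 𝒜 n := by
  show GradedAlgebra.proj 𝒜 n a ∈ 𝒜 n
  rw [GradedAlgebra.proj_apply]; exact (DirectSum.decompose 𝒜 a n).2

theorem cmp_of_mem {n m : ℤ} {a : R} (ha : a ∈ 𝒜 m) : cmp 𝒜 n a = if m = n then a else 0 :=
  GrSegreLib.proj_of_mem 𝒜 ha

theorem cmp_mul_left {e : ℤ} {a : R} (ha : a ∈ 𝒜 e) (r : R) (n : ℤ) :
    cmp 𝒜 n (a * r) = a * cmp 𝒜 (n - e) r := by
  show GradedAlgebra.proj 𝒜 n (a * r) = a * GradedAlgebra.proj 𝒜 (n - e) r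
  rw [GradedAlgebra.proj_apply, GradedAlgebra.proj_apply, mul_comm a r]
  have h := DirectSum.coe_decompose_mul_add_of_right_mem 𝒜 (a := r) (i := n - e) ha
  rw [sub_add_cancel] at h
  rw [h, mul_comm]

theorem exists_sum_cmp (a : R) : ∃ s : Finset ℤ, ∑ i ∈ s, cmp 𝒜 i a = a := by
  classical
  refine ⟨(DirectSum.decompose 𝒜 a).support, ?_⟩
  conv_rhs => rw [← DirectSum.sum_support_decompose 𝒜 a]
  exact Finset.sum_congr rfl fun i _ => GradedAlgebra.proj_apply 𝒜 i a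

/-- The irrelevant ideal. -/
def pos : Ideal R := Ideal.span {a | ∃ n : ℤ, 0 < n ∧ a ∈ 𝒜 n}

theorem mem_pos_of_mem {n : ℤ} (hn : 0 < n) {a : R} (ha : a ∈ 𝒜 n) : a ∈ pos 𝒜 :=
  Ideal.subset_span ⟨n, hn, ha⟩

variable (hpos : ∀ n : ℤ, n < 0 → 𝒜 n = ⊥) (h0 : 𝒜 0 = Submodule.span k {(1 : R)})

include hpos in
theorem eq_zero_of_neg {n : ℤ} (hn : n < 0) {a : R} (ha : a ∈ 𝒜 n) : a = 0 :=
  (Submodule.mem_bot k).1 (hpos n hn ▸ ha)

include h0 in
theorem exists_algebraMap_eq {a : R} (ha : a ∈ 𝒜 0) : ∃ c : k, algebraMap k R c = a := by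
  rw [h0, Submodule.mem_span_singleton] at ha
  obtain ⟨c, rfl⟩ := ha
  exact ⟨c, Algebra.algebraMap_eq_smul_one c⟩

include hpos in
theorem cmp_zero_of_mem_pos {a : R} (ha : a ∈ pos 𝒜) : cmp 𝒜 0 a = 0 := by
  induction ha using Submodule.span_induction with
  | mem x hx =>
    obtain ⟨n, hn, hx⟩ := hx
    rw [cmp_of_mem 𝒜 hx, if_neg hn.ne']
  | zero => exact map_zero _
  | add x y _ _ hx hy => rw [map_add, hx, hy, add_zero]
  | smul r x hx ih =>
    obtain ⟨s, hs⟩ := exists_sum_cmp 𝒜 r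
    rw [smul_eq_mul, ← hs, Finset.sum_mul, map_sum]
    refine Finset.sum_eq_zero fun i _ => ?_
    rw [cmp_mul_left 𝒜 (cmp_mem 𝒜 i r)]
    rcases lt_trichotomy i 0 with hi | rfl | hi
    · rw [eq_zero_of_neg 𝒜 hpos hi (cmp_mem 𝒜 i r), zero_mul]
    · rw [sub_zero, ih, mul_zero]
    · rw [eq_zero_of_neg 𝒜 hpos (show 0 - i < 0 by omega) (cmp_mem 𝒜 _ x), mul_zero]

include hpos h0 in
theorem exists_sub_mem_pos (a : R) :
    ∃ c : k, cmp 𝒜 0 a = algebraMap k R c ∧ a - algebraMap k R c ∈ pos 𝒜 := by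
  classical
  obtain ⟨c, hc⟩ := exists_algebraMap_eq 𝒜 h0 (cmp_mem 𝒜 0 a)
  refine ⟨c, hc.symm, ?_⟩
  obtain ⟨s, hs⟩ := exists_sum_cmp 𝒜 a
  have h : ∀ i, i ≠ 0 → cmp 𝒜 i a ∈ pos 𝒜 := fun i hi => by
    rcases lt_or_gt_of_ne hi with hi | hi
    · rw [eq_zero_of_neg 𝒜 hpos hi (cmp_mem 𝒜 i a)]; exact zero_mem _
    · exact mem_pos_of_mem 𝒜 hi (cmp_mem 𝒜 i a)
  by_cases h0s : (0 : ℤ) ∈ s
  · rw [hc]
    conv => enter [2, 1]; rw [← hs]
    rw [← Finset.add_sum_erase s _ h0s, add_sub_cancel_left]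
    exact Ideal.sum_mem _ fun i hi => h i (Finset.ne_of_mem_erase hi)
  · have ha : a ∈ pos 𝒜 := hs ▸ Ideal.sum_mem _ fun i hi => h i (fun e => h0s (e ▸ hi))
    rw [hc, cmp_zero_of_mem_pos 𝒜 hpos ha, sub_zero]
    exact ha

variable [Nontrivial R]

include hpos in
theorem pos_ne_top : pos 𝒜 ≠ ⊤ := fun h => by
  have := cmp_zero_of_mem_pos 𝒜 hpos (show (1 : R) ∈ pos 𝒜 from h ▸ Submodule.mem_top)
  rw [cmp_of_mem 𝒜 SetLike.GradedOne.one_mem, if_pos rfl] at this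
  exact one_ne_zero this

include hpos h0 in
theorem pos_isMaximal : (pos 𝒜).IsMaximal := by
  haveI : Nontrivial (R ⧸ pos 𝒜) := Ideal.Quotient.nontrivial_iff.2 (pos_ne_top 𝒜 hpos)
  refine Ideal.Quotient.maximal_of_isField _
    ((RingEquiv.ofBijective (algebraMap k (R ⧸ pos 𝒜)) ⟨RingHom.injective _, fun q => ?_⟩).toMulEquiv.symm.isField
      (Field.toIsField k))
  obtain ⟨a, rfl⟩ := Ideal.Quotient.mk_surjective q
  obtain ⟨c, -, hc⟩ := exists_sub_mem_pos 𝒜 hpos h0 a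
  exact ⟨c, (Ideal.Quotient.eq.2 hc).symm⟩

include hpos h0 in
theorem minimalPrime_le_pos {Q : Ideal R} (hQ : Q ∈ minimalPrimes R) : Q ≤ pos 𝒜 := by
  intro a ha
  obtain ⟨c, hc, hsub⟩ := exists_sub_mem_pos 𝒜 hpos h0 a
  have h := GrSegreLib.component_mem_minimalPrimes 𝒜 hQ ha 0
  rw [show GradedAlgebra.proj 𝒜 0 a = algebraMap k R c from hc] at h
  by_cases hc0 : c = 0
  · subst hc0
    rwa [map_zero, sub_zero] at hsub
  · exact absurd (Ideal.eq_top_of_isUnit_mem Q h ((isUnit_iff_ne_zero.2 hc0).map _)) hQ.1.1.ne_top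

include hpos h0 in
theorem minimalPrime_ne_pos (hd : 1 ≤ ringKrullDim R) {Q : Ideal R} (hQ : Q ∈ minimalPrimes R) :
    Q ≠ pos 𝒜 := by
  intro h
  have hle : ∀ Q' ∈ minimalPrimes R, ringKrullDim (R ⧸ Q') ≤ 0 := by
    intro Q' hQ'
    have heq : Q' = Q := le_antisymm (h ▸ minimalPrime_le_pos 𝒜 hpos h0 hQ')
      (hQ.2 hQ'.1 (h ▸ minimalPrime_le_pos 𝒜 hpos h0 hQ'))
    haveI : Q'.IsMaximal := by rw [heq, h]; exact pos_isMaximal 𝒜 hpos h0
    letI := Ideal.Quotient.field Q'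
    rw [ringKrullDim_eq_zero_of_field]
  have := hd.trans (GrSegreLib.dim_le_of_minimalPrimes hle)
  exact absurd this (by simp)

include hpos h0 in
theorem one_le_height_pos (hd : 1 ≤ ringKrullDim R) : 1 ≤ (pos 𝒜).height := by
  haveI := pos_isMaximal 𝒜 hpos h0
  rw [Order.one_le_iff_ne_zero, Ne, Ideal.height_eq_zero_iff]
  exact fun h => minimalPrime_ne_pos 𝒜 hpos h0 hd h rfl

include hpos h0 in
theorem exists_hom_notMem {Q : Ideal R} (hQ : Q ∈ minimalPrimes R) (hne : Q ≠ pos 𝒜) :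
    ∃ (n : ℕ) (u : R), 0 < n ∧ u ∈ 𝒜 n ∧ u ∉ Q := by
  by_contra hc
  push Not at hc
  refine hne (le_antisymm (minimalPrime_le_pos 𝒜 hpos h0 hQ) (Ideal.span_le.2 fun a ⟨n, hn, ha⟩ => ?_))
  exact hc n.toNat a (by omega) (by rwa [show ((n.toNat : ℕ) : ℤ) = n by omega])

include hpos h0 in
/-- A Cohen–Macaulay positively graded algebra has a homogeneous regular element of positive degree. -/
theorem exists_regular [IsCohenMacaulayRing R] (hd : 1 ≤ ringKrullDim R) :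
    ∃ (e : ℕ) (x : R), 0 < e ∧ x ∈ 𝒜 e ∧ IsSMulRegular R x := by
  classical
  have hfin := minimalPrimes.finite_of_isNoetherianRing R
  let t := hfin.toFinset
  have hu : ∀ Q : Ideal R, ∃ (n : ℕ) (u : R), Q ∈ t → 0 < n ∧ u ∈ 𝒜 n ∧ u ∉ Q ∧ ∀ Q' ∈ t, Q' ≠ Q → u ∈ Q' := by
    intro Q
    by_cases hQt : Q ∈ t
    · have hQ : Q ∈ minimalPrimes R := (Set.Finite.mem_toFinset hfin).1 hQt
      obtain ⟨n, u, hn, hun, huQ⟩ := exists_hom_notMem 𝒜 hpos h0 hQ (minimalPrime_ne_pos 𝒜 hpos h0 hd hQ)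
      have hv : ∀ Q' : Ideal R, ∃ (m : ℕ) (v : R), Q' ∈ t → Q' ≠ Q → v ∈ 𝒜 m ∧ v ∈ Q' ∧ v ∉ Q := by
        intro Q'
        by_cases h' : Q' ∈ t ∧ Q' ≠ Q
        · have hQ' : Q' ∈ minimalPrimes R := (Set.Finite.mem_toFinset hfin).1 h'.1
          obtain ⟨a, ha, haQ⟩ := SetLike.not_le_iff_exists.1 fun hle =>
            h'.2 (le_antisymm hle (hQ.2 hQ'.1 hle))
          obtain ⟨s, hs⟩ := exists_sum_cmp 𝒜 a
          obtain ⟨i, hi⟩ : ∃ i, cmp 𝒜 i a ∉ Q := by
            by_contra hc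
            push Not at hc
            exact haQ (hs ▸ Ideal.sum_mem _ fun i _ => hc i)
          have hi0 : 0 ≤ i := by
            by_contra hlt
            exact hi (by rw [eq_zero_of_neg 𝒜 hpos (not_le.1 hlt) (cmp_mem 𝒜 i a)]; exact zero_mem _)
          exact ⟨i.toNat, cmp 𝒜 i a, fun _ _ => ⟨by rw [show ((i.toNat : ℕ) : ℤ) = i by omega]; exact cmp_mem 𝒜 i a,
            GrSegreLib.component_mem_minimalPrimes 𝒜 hQ' ha i, hi⟩⟩
        · exact ⟨0, 0, fun h1 h2 => absurd ⟨h1, h2⟩ h'⟩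
      choose m v hv using hv
      refine ⟨n + ∑ Q' ∈ t.erase Q, m Q', u * ∏ Q' ∈ t.erase Q, v Q', fun _ => ⟨by omega, ?_, ?_, ?_⟩⟩
      · push_cast
        exact SetLike.mul_mem_graded hun (SetLike.prod_mem_graded 𝒜 (fun Q' => (m Q' : ℤ)) v fun Q' hQ'' =>
          (hv Q' (Finset.mem_of_mem_erase hQ'') (Finset.ne_of_mem_erase hQ'')).1)
      · haveI := hQ.1.1
        intro hmem
        rcases Ideal.IsPrime.mem_or_mem this hmem with h | h
        · exact huQ h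
        · obtain ⟨Q', hQ'', h⟩ := (Ideal.IsPrime.prod_mem_iff).1 h
          exact (hv Q' (Finset.mem_of_mem_erase hQ'') (Finset.ne_of_mem_erase hQ'')).2.2 h
      · intro Q' hQ't hne
        refine Ideal.mul_mem_left _ _ ?_
        rw [← Finset.mul_prod_erase _ _ (Finset.mem_erase.2 ⟨hne, hQ't⟩)]
        exact Ideal.mul_mem_right _ _ (hv Q' hQ't hne).2.1
    · exact ⟨0, 0, fun h => absurd h hQt⟩
  choose n u hu using hu
  let D := ∏ Q ∈ t, n Q
  have hDpos : 0 < D := Finset.prod_pos fun Q hQ => (hu Q hQ).1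
  refine ⟨D, ∑ Q ∈ t, u Q ^ (D / n Q), hDpos, Submodule.sum_mem _ fun Q hQ => ?_, ?_⟩
  · have h := SetLike.pow_mem_graded (D / n Q) (hu Q hQ).2.1
    rwa [nsmul_eq_mul, ← Nat.cast_mul, Nat.div_mul_cancel (Finset.dvd_prod_of_mem n hQ)] at h
  · by_contra hx
    have h2 : (∑ Q ∈ t, u Q ^ (D / n Q)) ∈ {r : R | IsSMulRegular R r}ᶜ := hx
    rw [← biUnion_associatedPrimes_eq_compl_regular] at h2
    obtain ⟨q, hq, hmem⟩ := Set.mem_iUnion₂.1 h2
    haveI : q.IsPrime := IsAssociatedPrime.isPrime hq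
    have hqt : q ∈ t := (Set.Finite.mem_toFinset hfin).2
      (Ideal.height_eq_zero_iff.1 (height_eq_zero_of_mem_assPrimes hq))
    have hk : ∀ Q ∈ t, 0 < D / n Q := fun Q hQ =>
      Nat.div_pos (Nat.le_of_dvd hDpos (Finset.dvd_prod_of_mem n hQ)) (hu Q hQ).1
    rw [← Finset.add_sum_erase _ _ hqt] at hmem
    have hmem' : u q ^ (D / n q) ∈ q := (Ideal.add_mem_iff_left q (Ideal.sum_mem _ fun Q hQ => by
      have hQt := Finset.mem_of_mem_erase hQ
      exact Ideal.pow_mem_of_mem _ ((hu Q hQt).2.2.2 q hqt (Finset.ne_of_mem_erase hQ).symm) _ (hk Q hQt))).1 hmem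
    exact (hu q hqt).2.2.1 (Ideal.IsPrime.mem_of_pow_mem inferInstance _ hmem')

omit [Nontrivial R] in
/-- In dimension at most one, a regular homogeneous element divides everything of large degree. -/
theorem exists_large_mem_span [Algebra.FiniteType k R] (hd : ringKrullDim R ≤ 1) {e : ℤ} {x : R}
    (hx : x ∈ 𝒜 e) (hreg : IsSMulRegular R x) :
    ∃ N : ℤ, ∀ n, N ≤ n → ∀ a ∈ 𝒜 n, ∃ b ∈ 𝒜 (n - e), a = x * b := by
  classical
  haveI : IsNoetherianRing R := Algebra.FiniteType.isNoetherianRing k R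
  let A := R ⧸ Ideal.span {x}
  haveI : Algebra.FiniteType k A := Algebra.FiniteType.trans (inferInstance : Algebra.FiniteType k R) inferInstance
  haveI : Ring.KrullDimLE 0 A := by
    rw [Ring.krullDimLE_iff]
    have h1 : ringKrullDim A + 1 ≤ 1 := le_trans
      (ringKrullDim_quotient_succ_le_of_nonZeroDivisor
        (mem_nonZeroDivisors_iff_right.2 fun z hz => hreg (show x * z = x * 0 by rw [mul_zero, mul_comm, hz]))) hd
    cases hA : ringKrullDim A with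
    | bot => simp
    | coe a =>
      rw [hA, ← WithBot.coe_one, ← WithBot.coe_add, WithBot.coe_le_coe] at h1
      have : a = 0 := by
        by_contra h
        have h2 : (1 : ℕ∞) + 1 ≤ a + 1 := add_le_add (Order.one_le_iff_ne_zero.2 h) le_rfl
        exact absurd (h2.trans h1) (by norm_num)
      rw [this]; simp
  haveI : IsArtinianRing A := IsNoetherianRing.isArtinianRing_of_krullDimLE_zero
  haveI : Module.Finite k A := (Module.finite_iff_isArtinianRing k A).2 inferInstance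
  let S := {n : ℤ | ∃ a ∈ 𝒜 n, a ∉ Ideal.span {x}}
  have hfin : S.Finite := by
    choose a ha hax using fun n : S => n.2
    have hli : LinearIndependent k fun n : S => Ideal.Quotient.mk (Ideal.span {x}) (a n) := by
      rw [linearIndependent_iff']
      intro s c hc i hi
      by_contra hci
      rw [show ∑ j ∈ s, c j • Ideal.Quotient.mk (Ideal.span {x}) (a j) =
        Ideal.Quotient.mkₐ k (Ideal.span {x}) (∑ j ∈ s, c j • a j) by rw [map_sum]; simp [map_smul]] at hc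
      obtain ⟨w, hw⟩ := Ideal.mem_span_singleton.1 (Ideal.Quotient.eq_zero_iff_mem.1 hc)
      have h := congrArg (cmp 𝒜 i.1) hw
      rw [map_sum, cmp_mul_left 𝒜 hx, Finset.sum_eq_single i (fun j _ hj => by
        rw [map_smul, cmp_of_mem 𝒜 (ha j), if_neg (fun e => hj (Subtype.ext e)), smul_zero])
        (fun h => absurd hi h), map_smul, cmp_of_mem 𝒜 (ha i), if_pos rfl] at h
      refine hax i (Ideal.mem_span_singleton.2 ⟨(c i)⁻¹ • cmp 𝒜 (i.1 - e) w, ?_⟩)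
      rw [mul_smul_comm, ← h, inv_smul_smul₀ hci]
    exact hli.finite
  obtain ⟨N, hN⟩ := hfin.bddAbove
  refine ⟨N + 1, fun n hn a ha => ?_⟩
  have hax : a ∈ Ideal.span {x} := by
    by_contra h
    exact absurd (hN (show n ∈ S from ⟨a, ha, h⟩)) (by omega)
  obtain ⟨w, rfl⟩ := Ideal.mem_span_singleton.1 hax
  refine ⟨cmp 𝒜 (n - e) w, cmp_mem 𝒜 _ _, ?_⟩
  have h := cmp_mul_left 𝒜 hx w n
  rw [cmp_of_mem 𝒜 ha, if_pos rfl] at h
  exact h

include hpos h0 in
/-- Some element of degree one is not nilpotent. -/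
theorem exists_not_nilpotent_deg_one (hd : 1 ≤ ringKrullDim R)
    (hstd : pos 𝒜 = Ideal.span ((𝒜 1 : Submodule k R) : Set R)) : ∃ y ∈ 𝒜 1, ¬ IsNilpotent y := by
  by_contra hc
  push Not at hc
  haveI := (pos_isMaximal 𝒜 hpos h0).isPrime
  obtain ⟨Q, hQ, -⟩ := Ideal.exists_minimalPrimes_le (J := pos 𝒜) (I := (⊥ : Ideal R)) bot_le
  refine minimalPrime_ne_pos 𝒜 hpos h0 hd hQ (le_antisymm (minimalPrime_le_pos 𝒜 hpos h0 hQ) ?_)
  rw [hstd, Ideal.span_le]
  intro y hy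
  obtain ⟨m, hm⟩ := hc y hy
  exact hQ.1.1.mem_of_pow_mem m (hm ▸ zero_mem _)

include hpos in
/-- Standard graded with one regular generator: the pieces are lines. -/
theorem mem_span_pow (h0 : 𝒜 0 = Submodule.span k {(1 : R)}) (hstd : pos 𝒜 = Ideal.span ((𝒜 1 : Submodule k R) : Set R))
    {y : R} (hy : y ∈ 𝒜 1) (h1 : ∀ z ∈ 𝒜 1, ∃ c : k, z = c • y) :
    ∀ (n : ℕ) (a : R), a ∈ 𝒜 n → ∃ c : k, a = c • y ^ n := by
  intro n
  induction n with
  | zero =>
    intro a ha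
    obtain ⟨c, hc⟩ := exists_algebraMap_eq 𝒜 h0 (by exact_mod_cast ha)
    exact ⟨c, by rw [pow_zero, ← Algebra.algebraMap_eq_smul_one, hc]⟩
  | succ n ih =>
    intro a ha
    have hmem : a ∈ Ideal.span {y} := by
      refine (show pos 𝒜 ≤ Ideal.span {y} from ?_) (mem_pos_of_mem 𝒜 (by omega) ha)
      rw [hstd, Ideal.span_le]
      intro z hz
      obtain ⟨c, rfl⟩ := h1 z hz
      exact Submodule.smul_of_tower_mem _ c (Ideal.mem_span_singleton_self y)
    obtain ⟨w, rfl⟩ := Ideal.mem_span_singleton.1 hmem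
    have h := cmp_mul_left 𝒜 hy w ((n + 1 : ℕ) : ℤ)
    rw [cmp_of_mem 𝒜 ha, if_pos rfl, show ((n + 1 : ℕ) : ℤ) - 1 = n by push_cast; ring] at h
    obtain ⟨c, hc⟩ := ih _ (cmp_mem 𝒜 _ w)
    exact ⟨c, by rw [h, hc, pow_succ, mul_smul_comm, mul_comm y]⟩

include hpos in
/-- Then it is a polynomial ring in one variable. -/
theorem aeval_bijective (h0 : 𝒜 0 = Submodule.span k {(1 : R)}) (hstd : pos 𝒜 = Ideal.span ((𝒜 1 : Submodule k R) : Set R))
    {y : R} (hy : y ∈ 𝒜 1) (hreg : IsSMulRegular R y) (h1 : ∀ z ∈ 𝒜 1, ∃ c : k, z = c • y) :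
    Function.Bijective (Polynomial.aeval y : Polynomial k →ₐ[k] R) := by
  classical
  have hyn : ∀ n : ℕ, y ^ n ∈ 𝒜 (n : ℤ) := fun n => by
    have h := SetLike.pow_mem_graded n hy
    rwa [nsmul_one] at h
  constructor
  · refine (injective_iff_map_eq_zero _).2 fun p hp => Polynomial.ext fun n => ?_
    have h := congrArg (cmp 𝒜 (n : ℤ)) hp
    rw [Polynomial.aeval_eq_sum_range, map_sum, map_zero] at h
    by_cases hn : n ∈ Finset.range (p.natDegree + 1)
    · rw [Finset.sum_eq_single n (fun j _ hj => by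
        rw [map_smul, cmp_of_mem 𝒜 (hyn j), if_neg (by exact_mod_cast hj), smul_zero]) (fun h' => absurd hn h'),
        map_smul, cmp_of_mem 𝒜 (hyn n), if_pos rfl] at h
      rw [Polynomial.coeff_zero]
      by_contra hne
      have h2 : y ^ n = 0 := by rw [← inv_smul_smul₀ hne (y ^ n), h, smul_zero]
      exact one_ne_zero ((hreg.pow n) (show y ^ n • (1 : R) = y ^ n • 0 by simp [h2]))
    · rw [Polynomial.coeff_zero]
      exact Polynomial.coeff_eq_zero_of_natDegree_lt (by simp at hn; omega)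
  · intro a
    obtain ⟨s, hs⟩ := exists_sum_cmp 𝒜 a
    rw [← AlgHom.mem_range, ← hs]
    refine Subalgebra.sum_mem _ fun i _ => ?_
    by_cases hi : i < 0
    · rw [eq_zero_of_neg 𝒜 hpos hi (cmp_mem 𝒜 i a)]; exact Subalgebra.zero_mem _
    · obtain ⟨c, hc⟩ := mem_span_pow 𝒜 hpos h0 hstd hy h1 i.toNat (cmp 𝒜 i a)
        (by rw [show ((i.toNat : ℕ) : ℤ) = i by omega]; exact cmp_mem 𝒜 i a)
      exact ⟨Polynomial.C c * Polynomial.X ^ i.toNat, by simp [hc, Algebra.smul_def]⟩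

include hpos h0 in
/-- A standard graded algebra isomorphic to a polynomial ring in one variable has a regular
generator in degree one. -/
theorem exists_generator_of_algEquiv (hstd : pos 𝒜 = Ideal.span ((𝒜 1 : Submodule k R) : Set R))
    (φ : R ≃ₐ[k] Polynomial k) :
    ∃ y ∈ 𝒜 1, IsSMulRegular R y ∧ ∀ z ∈ 𝒜 1, ∃ c : k, z = c • y := by
  classical
  haveI : IsDomain R := φ.toMulEquiv.isDomain (Polynomial k)
  haveI : IsPrincipalIdealRing R :=
    IsPrincipalIdealRing.of_surjective φ.symm.toRingEquiv.toRingHom φ.symm.surjective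
  obtain ⟨f, hf⟩ := (IsPrincipalIdealRing.principal (pos 𝒜)).principal
  replace hf : pos 𝒜 = Ideal.span {f} := hf
  have hne : pos 𝒜 ≠ ⊥ := fun h => by
    have hfield : IsField R := by
      have := (pos_isMaximal 𝒜 hpos h0)
      rw [h] at this
      exact (RingEquiv.quotientBot R).symm.toMulEquiv.isField (Ideal.Quotient.maximal_ideal_iff_isField_quotient _ |>.1 this)
    exact Polynomial.not_isField k (φ.symm.toMulEquiv.isField hfield)
  obtain ⟨y, hy, hy0⟩ : ∃ y ∈ 𝒜 1, y ≠ 0 := by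
    by_contra hc
    push Not at hc
    exact hne (by rw [hstd, Ideal.span_eq_bot]; exact hc)
  have h2 : ∀ a ∈ pos 𝒜, ∀ b ∈ pos 𝒜, cmp 𝒜 1 (a * b) = 0 := by
    intro a ha b hb
    obtain ⟨s, hs⟩ := exists_sum_cmp 𝒜 a
    rw [← hs, Finset.sum_mul, map_sum]
    refine Finset.sum_eq_zero fun i _ => ?_
    rw [cmp_mul_left 𝒜 (cmp_mem 𝒜 i a)]
    rcases lt_trichotomy i 0 with hi | rfl | hi
    · rw [eq_zero_of_neg 𝒜 hpos hi (cmp_mem 𝒜 i a), zero_mul]
    · rw [cmp_zero_of_mem_pos 𝒜 hpos ha, zero_mul]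
    · rcases (show i = 1 ∨ 1 < i by omega) with rfl | hi
      · rw [sub_self, cmp_zero_of_mem_pos 𝒜 hpos hb, mul_zero]
      · rw [eq_zero_of_neg 𝒜 hpos (show 1 - i < 0 by omega) (cmp_mem 𝒜 _ b), mul_zero]
  have key : ∀ z ∈ 𝒜 1, ∃ c : k, z = c • cmp 𝒜 1 f := by
    intro z hz
    obtain ⟨g, hg⟩ := Ideal.mem_span_singleton'.1 (hf ▸ mem_pos_of_mem 𝒜 (by norm_num) hz)
    obtain ⟨c, -, hgc⟩ := exists_sub_mem_pos 𝒜 hpos h0 g
    refine ⟨c, ?_⟩
    have h := h2 _ hgc f (hf ▸ Ideal.mem_span_singleton_self f)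
    rw [sub_mul, map_sub, hg, cmp_of_mem 𝒜 hz, if_pos rfl, ← Algebra.smul_def, map_smul, sub_eq_zero] at h
    exact h
  obtain ⟨c, hc⟩ := key y hy
  have hc0 : c ≠ 0 := fun h => hy0 (by rw [hc, h, zero_smul])
  refine ⟨y, hy, IsSMulRegular.of_ne_zero hy0, fun z hz => ?_⟩
  obtain ⟨d, hd⟩ := key z hz
  exact ⟨d * c⁻¹, by rw [hc, smul_smul, mul_assoc, inv_mul_cancel₀ hc0, mul_one, hd]⟩

end Groth.Agent.PosGr
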