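import Mathlib
import Groth.Agent.DimTheory.Algebra
import Groth.Agent.GrSegreLib.GradedHom
import Groth.Agent.GrSegreLib.Gen
import Groth.Agent.GrSegreLib.Dim

set_option autoImplicit false
set_option maxHeartbeats 1000000
set_option synthInstance.maxHeartbeats 100000
universe u
open scoped TensorProduct

namespace Groth.Agent.GrSegreLib

variable {k : Type u} [Field k] {R : Type u} [CommRing R] [Algebra k R] (𝒜 : ℤ → Submodule k R)
  [GradedAlgebra 𝒜] {S : Type u} [CommRing S] [Algebra k S] (ℬ : ℤ → Submodule k S)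
  [GradedAlgebra ℬ] {T : Type u} [CommRing T] [Algebra k T] (𝒯 : ℤ → Submodule k T)
  [GradedAlgebra 𝒯] (ψ : T →ₐ[k] R ⊗[k] S)
  (hdegT : ∀ n : ℤ, (𝒯 n).map ψ.toLinearMap =
    Submodule.span k {x : R ⊗[k] S | ∃ a ∈ 𝒜 n, ∃ b ∈ ℬ n, x = a ⊗ₜ[k] b})
  [Algebra.FiniteType k R] [Algebra.FiniteType k S]
  (hposR : ∀ n : ℤ, n < 0 → 𝒜 n = ⊥) (hposS : ∀ n : ℤ, n < 0 → ℬ n = ⊥)
  (h0R : 𝒜 0 = Submodule.span k {(1 : R)}) (h0S : ℬ 0 = Submodule.span k {(1 : S)})
include hdegT hposR hposS h0R h0S

theorem trdeg_le_succ {E : Type u} [CommRing E] [IsDomain E] [Algebra k E] (π : R ⊗[k] S →ₐ[k] E)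
    (hπs : Function.Surjective π) {n : ℕ} (hn : n ≠ 0) {u : R} {v : S} (hu : u ∈ 𝒜 (n : ℤ))
    (hv : v ∈ ℬ (n : ℤ)) (hub : π (u ⊗ₜ[k] 1) ≠ 0) (hvb : π ((1 : R) ⊗ₜ[k] v) ≠ 0) :
    Algebra.trdeg k E ≤ Algebra.trdeg k (π.comp ψ).range + 1 := by
  classical
  let ub : E := π (u ⊗ₜ[k] 1)
  let vb : E := π ((1 : R) ⊗ₜ[k] v)
  let T' : Subalgebra k E := (π.comp ψ).range
  let A := Algebra.adjoin T' ({ub} : Set E)
  have hT : ∀ {d : ℤ} {a : R} {b : S}, a ∈ 𝒜 d → b ∈ ℬ d → π (a ⊗ₜ[k] b) ∈ A := by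
    intro d a b ha hb
    obtain ⟨t, ht⟩ := tmul_mem_range 𝒜 ℬ 𝒯 ψ hdegT ha hb
    have h1 : π (a ⊗ₜ[k] b) ∈ T' := ⟨t, congrArg π ht⟩
    exact A.algebraMap_mem ⟨_, h1⟩
  have hubA : ub ∈ A := Algebra.subset_adjoin rfl
  have halg : ∀ (x c e : E), c ∈ A → e ∈ A → c ≠ 0 → c * x ^ n = e → IsAlgebraic A x := by
    intro x c e hc he hc0 hx
    refine ⟨Polynomial.C (⟨c, hc⟩ : A) * Polynomial.X ^ n - Polynomial.C (⟨e, he⟩ : A), ?_, ?_⟩
    · intro h0
      have h1 := congrArg (fun p => Polynomial.coeff p n) h0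
      simp [Polynomial.coeff_C, hn] at h1
      exact hc0 (congrArg Subtype.val h1)
    · simp [hx]
  have halgA : Algebra.IsAlgebraic A E := by
    refine ⟨fun x => ?_⟩
    obtain ⟨q, rfl⟩ := hπs x
    induction q using TensorProduct.induction_on with
    | zero => rw [map_zero]; exact isAlgebraic_zero
    | add q₁ q₂ h₁ h₂ => rw [map_add]; exact h₁.add h₂
    | tmul a b =>
      rw [show a ⊗ₜ[k] b = (a ⊗ₜ[k] (1 : S)) * ((1 : R) ⊗ₜ[k] b) by simp, map_mul]
      refine IsAlgebraic.mul ?_ ?_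
      · rw [← DirectSum.sum_support_decompose 𝒜 a, TensorProduct.sum_tmul, map_sum]
        refine Finset.sum_induction _ (IsAlgebraic A) (fun _ _ => IsAlgebraic.add) isAlgebraic_zero
          fun d _ => ?_
        have hd := SetLike.coe_mem (DirectSum.decompose 𝒜 a d)
        rcases lt_or_ge d 0 with hd0 | hd0
        · rw [(Submodule.mem_bot k).mp (SetLike.le_def.mp (hposR d hd0).le hd),
            TensorProduct.zero_tmul, map_zero]
          exact isAlgebraic_zero
        lift d to ℕ using hd0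
        set a' := (DirectSum.decompose 𝒜 a (d : ℤ) : R)
        have h1 : a' ^ n ∈ 𝒜 ((n * d : ℕ) : ℤ) := by
          simpa using SetLike.pow_mem_graded (A := 𝒜) n hd
        have h2 : v ^ d ∈ ℬ ((n * d : ℕ) : ℤ) := by
          simpa [mul_comm] using SetLike.pow_mem_graded (A := ℬ) d hv
        have h3 : u ^ d ∈ 𝒜 ((n * d : ℕ) : ℤ) := by
          simpa [mul_comm] using SetLike.pow_mem_graded (A := 𝒜) d hu
        refine halg _ (π ((u ^ d) ⊗ₜ[k] (v ^ d))) (ub ^ d * π ((a' ^ n) ⊗ₜ[k] (v ^ d)))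
          (hT h3 h2) (A.mul_mem (A.pow_mem hubA d) (hT h1 h2)) ?_ ?_
        · have : π ((u ^ d) ⊗ₜ[k] (v ^ d)) = ub ^ d * vb ^ d := by
            simp only [ub, vb, ← map_pow, ← map_mul, Algebra.TensorProduct.tmul_pow,
              Algebra.TensorProduct.tmul_mul_tmul, one_pow, mul_one, one_mul]
          rw [this]
          exact mul_ne_zero (pow_ne_zero _ hub) (pow_ne_zero _ hvb)
        · simp only [ub, ← map_pow, ← map_mul, Algebra.TensorProduct.tmul_pow,
            Algebra.TensorProduct.tmul_mul_tmul, one_pow, mul_one, one_mul]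
      · rw [← DirectSum.sum_support_decompose ℬ b, TensorProduct.tmul_sum, map_sum]
        refine Finset.sum_induction _ (IsAlgebraic A) (fun _ _ => IsAlgebraic.add) isAlgebraic_zero
          fun d _ => ?_
        have hd := SetLike.coe_mem (DirectSum.decompose ℬ b d)
        rcases lt_or_ge d 0 with hd0 | hd0
        · rw [(Submodule.mem_bot k).mp (SetLike.le_def.mp (hposS d hd0).le hd),
            TensorProduct.tmul_zero, map_zero]
          exact isAlgebraic_zero
        lift d to ℕ using hd0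
        set b' := (DirectSum.decompose ℬ b (d : ℤ) : S)
        have h1 : b' ^ n ∈ ℬ ((n * d : ℕ) : ℤ) := by
          simpa using SetLike.pow_mem_graded (A := ℬ) n hd
        have h3 : u ^ d ∈ 𝒜 ((n * d : ℕ) : ℤ) := by
          simpa [mul_comm] using SetLike.pow_mem_graded (A := 𝒜) d hu
        refine halg _ (ub ^ d) (π ((u ^ d) ⊗ₜ[k] (b' ^ n)))
          (A.pow_mem hubA d) (hT h3 h1) (pow_ne_zero _ hub) ?_
        simp only [ub, ← map_pow, ← map_mul, Algebra.TensorProduct.tmul_pow,
          Algebra.TensorProduct.tmul_mul_tmul, one_pow, mul_one, one_mul]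
  have h1 : Algebra.trdeg T' E ≤ 1 := by
    have : Algebra.IsAlgebraic (Algebra.adjoin T' ({ub} : Set E)) E := halgA
    refine (Algebra.IsAlgebraic.trdeg_le_cardinalMk T' ({ub} : Set E)).trans ?_
    simp
  haveI : FaithfulSMul k T' :=
    (faithfulSMul_iff_algebraMap_injective _ _).2 (RingHom.injective _)
  change Algebra.trdeg k E ≤ Algebra.trdeg k T' + 1
  rw [← trdeg_add_eq k T' (A := E)]
  exact add_le_add le_rfl h1

theorem dim_image_le {E : Type u} [CommRing E] [IsDomain E] [Algebra k E] [Algebra.FiniteType k E]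
    [Algebra.FiniteType k T] (π : R ⊗[k] S →ₐ[k] E)
    (hmin : ∀ (I : Ideal (R ⊗[k] S)), I.IsPrime → I ≤ RingHom.ker π → RingHom.ker π ≤ I)
    (N : ℕ) (hN : ringKrullDim E ≤ N) :
    ringKrullDim (π.comp ψ).range ≤ ((N - 1 : ℕ) : WithBot ℕ∞) := by
  classical
  let T' : Subalgebra k E := (π.comp ψ).range
  haveI : Algebra.FiniteType k T' :=
    Algebra.FiniteType.of_surjective (π.comp ψ).rangeRestrict (AlgHom.rangeRestrict_surjective _)
  haveI : FaithfulSMul k T' :=
    (faithfulSMul_iff_algebraMap_injective _ _).2 (RingHom.injective _)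
  change ringKrullDim T' ≤ _
  by_cases hu : ∃ (n : ℤ) (u : R), 0 < n ∧ u ∈ 𝒜 n ∧ π (u ⊗ₜ[k] 1) ≠ 0
  · obtain ⟨n, u, hn, hun, hu0⟩ := hu
    obtain ⟨tt, htt, htt'⟩ := DimTheory.exists_trdeg_eq k T'
    obtain ⟨ee, hee, hee'⟩ := DimTheory.exists_trdeg_eq k E
    have hee2 : ee ≤ N := by
      rw [hee] at hN
      exact_mod_cast hN
    let χ : R ⊗[k] S →ₐ[k] AddMonoidAlgebra E ℤ := Algebra.TensorProduct.lift
      (evalHom 𝒜 (π.comp Algebra.TensorProduct.includeLeft) (AddMonoidHom.id ℤ))
      (evalHom ℬ (π.comp Algebra.TensorProduct.includeRight) (-AddMonoidHom.id ℤ))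
      (fun _ _ => Commute.all _ _)
    have hev : (evalOne k E).comp χ = π := by
      refine Algebra.TensorProduct.ext ?_ ?_
      · ext a
        simp only [χ, AlgHom.comp_apply, AlgHom.restrictScalars_apply,
          Algebra.TensorProduct.includeLeft_apply, Algebra.TensorProduct.lift_tmul, map_one, mul_one]
        rw [← AlgHom.comp_apply, evalOne_comp_evalHom]
        rfl
      · ext b
        simp only [χ, AlgHom.comp_apply, AlgHom.restrictScalars_apply,
          Algebra.TensorProduct.includeRight_apply, Algebra.TensorProduct.lift_tmul, map_one, one_mul]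
        rw [← AlgHom.comp_apply, evalOne_comp_evalHom]
        rfl
    haveI hχp : (RingHom.ker χ).IsPrime := RingHom.ker_isPrime χ
    have hkle : RingHom.ker χ ≤ RingHom.ker π := fun x hx => by
      rw [RingHom.mem_ker] at hx
      have := congrArg (fun f : R ⊗[k] S →ₐ[k] E => f x) hev
      simp only [AlgHom.comp_apply, hx, map_zero] at this
      exact RingHom.mem_ker.mpr this.symm
    have hker : RingHom.ker χ = RingHom.ker π :=
      le_antisymm hkle (hmin _ hχp hkle)
    have hχT : ∀ t, χ (ψ t) = AddMonoidAlgebra.single 0 (π (ψ t)) := by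
      refine range_induction 𝒜 ℬ 𝒯 ψ hdegT (p := fun x => χ x = AddMonoidAlgebra.single 0 (π x))
        ?_ ?_ ?_ ?_
      · simp
      · intro x y hx hy; rw [map_add, map_add, hx, hy, AddMonoidAlgebra.single_add]
      · intro c x hx; rw [map_smul, map_smul, hx, AddMonoidAlgebra.smul_single]
      · intro d a b ha hb
        rw [Algebra.TensorProduct.lift_tmul, evalHom_of_mem 𝒜 _ _ ha, evalHom_of_mem ℬ _ _ hb,
          AddMonoidAlgebra.single_mul_single]
        congr 1
        · simp
        · simp only [AlgHom.comp_apply, Algebra.TensorProduct.includeLeft_apply,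
            Algebra.TensorProduct.includeRight_apply, ← map_mul,
            Algebra.TensorProduct.tmul_mul_tmul, mul_one, one_mul]
    have htr : Transcendental T' (π (u ⊗ₜ[k] 1)) := by
      rw [transcendental_iff]
      intro q hq
      have hlift : ∀ i, ∃ t, π (ψ t) = (q.coeff i : E) := fun i => (q.coeff i).2
      choose τ hτ using hlift
      let y := ∑ i ∈ q.support, ψ (τ i) * (u ⊗ₜ[k] (1 : S)) ^ i
      have hy : π y = 0 := by
        rw [← hq, Polynomial.aeval_eq_sum_range' (n := q.natDegree + 1) (Nat.lt_succ_self _)]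
        simp only [y, map_sum, map_mul, map_pow, hτ]
        refine Finset.sum_subset_zero_on_sdiff ?_ ?_ ?_
        · exact fun i hi => Finset.mem_range.mpr (Nat.lt_succ_of_le (Polynomial.le_natDegree_of_mem_supp i hi))
        · intro i hi
          rw [Finset.mem_sdiff, Polynomial.notMem_support_iff] at hi
          rw [hi.2, zero_smul]
        · intro i _
          rw [Subalgebra.smul_def, smul_eq_mul]
      have hy' : χ y = 0 := by
        rw [← RingHom.mem_ker, hker]
        exact hy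
      ext i
      by_cases hi : i ∈ q.support
      · have h1 := congrArg (fun z => AddMonoidAlgebra.coeff z ((i : ℤ) * n)) hy'
        simp only [y, map_sum, map_mul, map_pow, hχT, Algebra.TensorProduct.lift_tmul,
          evalHom_of_mem 𝒜 _ _ hun, χ, map_one, mul_one, AddMonoidAlgebra.single_pow,
          AddMonoidAlgebra.single_mul_single, AddMonoidHom.id_apply, zero_add] at h1
        simp only [AddMonoidAlgebra.coeff_sum, Finsupp.finsetSum_apply,
          AddMonoidAlgebra.coeff_single, Finsupp.single_apply, AddMonoidAlgebra.coeff_zero,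
          Finsupp.coe_zero, Pi.zero_apply, nsmul_eq_mul, mul_eq_mul_right_iff, hn.ne', or_false,
          Nat.cast_inj, Finset.sum_ite_eq', hi, if_true, hτ] at h1
        rcases mul_eq_zero.mp h1 with h | h
        · rw [Polynomial.coeff_zero]; exact h.trans (ZeroMemClass.coe_zero T').symm
        · exact absurd (pow_eq_zero_iff'.mp h).1 hu0
      · rw [Polynomial.notMem_support_iff.mp hi, Polynomial.coeff_zero]
    have h1 : (1 : Cardinal) ≤ Algebra.trdeg T' E := by
      have hind : AlgebraicIndependent T' (fun _ : PUnit.{u + 1} => π (u ⊗ₜ[k] 1)) := by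
        rw [algebraicIndependent_unique_type_iff]; exact htr
      simpa using hind.cardinalMk_le_trdeg
    have h2 : (tt : Cardinal) + 1 ≤ ee := by
      rw [← hee', ← trdeg_add_eq k T' (A := E), htt']
      exact add_le_add le_rfl h1
    have h3 : tt + 1 ≤ ee := by exact_mod_cast h2
    rw [htt]
    exact_mod_cast (by omega : tt ≤ N - 1)
  · push Not at hu
    have hsurj : Function.Surjective (algebraMap k T') := by
      have hall : ∀ t, π (ψ t) ∈ Submodule.span k {(1 : E)} := by
        refine range_induction 𝒜 ℬ 𝒯 ψ hdegT (p := fun x => π x ∈ Submodule.span k {(1 : E)})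
          ?_ ?_ ?_ ?_
        · simp
        · intro x y hx hy; rw [map_add]; exact Submodule.add_mem _ hx hy
        · intro c x hx; rw [map_smul]; exact Submodule.smul_mem _ c hx
        · intro d a b ha hb
          rcases lt_trichotomy d 0 with hd | hd | hd
          · rw [(Submodule.mem_bot k).mp (SetLike.le_def.mp (hposR d hd).le ha),
              TensorProduct.zero_tmul, map_zero]
            exact Submodule.zero_mem _
          · subst hd
            obtain ⟨c, hc⟩ := Submodule.mem_span_singleton.mp (SetLike.le_def.mp h0R.le ha)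
            obtain ⟨c', hc'⟩ := Submodule.mem_span_singleton.mp (SetLike.le_def.mp h0S.le hb)
            rw [← hc, ← hc', TensorProduct.smul_tmul_smul, ← Algebra.TensorProduct.one_def, map_smul,
              map_one]
            exact Submodule.smul_mem _ _ (Submodule.mem_span_singleton_self _)
          · rw [show a ⊗ₜ[k] b = (a ⊗ₜ[k] (1 : S)) * ((1 : R) ⊗ₜ[k] b) by simp, map_mul,
              hu d a hd ha, zero_mul]
            exact Submodule.zero_mem _
      rintro ⟨_, t, rfl⟩
      obtain ⟨c, hc⟩ := Submodule.mem_span_singleton.mp (hall t)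
      refine ⟨c, Subtype.ext ?_⟩
      rw [Algebra.smul_def, mul_one] at hc
      exact hc
    refine (ringKrullDim_le_of_surjective _ hsurj).trans ?_
    rw [ringKrullDim_eq_zero_of_field]
    exact_mod_cast Nat.zero_le _

theorem le_ringKrullDim (hψ : Function.Injective ψ) (r s : ℕ) (hr : ringKrullDim R = r)
    (hs : ringKrullDim S = s) (h1r : 1 ≤ r) (h1s : 1 ≤ s) :
    ((r + s - 1 : ℕ) : WithBot ℕ∞) ≤ ringKrullDim T := by
  classical
  haveI := finiteType 𝒜 ℬ 𝒯 ψ hdegT hψ hposR hposS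
  obtain ⟨P, hPmin, hPdim⟩ := exists_minimalPrime_dim hr
  obtain ⟨Q, hQmin, hQdim⟩ := exists_minimalPrime_dim hs
  haveI : P.IsPrime := hPmin.1.1
  haveI : Q.IsPrime := hQmin.1.1
  obtain ⟨m, u₀, hm, hu₀, hu₀P⟩ := exists_pos_deg_notMem 𝒜 h0R hposR P
    (by rw [hPdim]; exact_mod_cast h1r)
  obtain ⟨m', v₀, hm', hv₀, hv₀Q⟩ := exists_pos_deg_notMem ℬ h0S hposS Q
    (by rw [hQdim]; exact_mod_cast h1s)
  lift m to ℕ using hm.le
  lift m' to ℕ using hm'.le
  let n := m * m'
  have hn : n ≠ 0 := Nat.mul_ne_zero (by omega) (by omega)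
  let u := u₀ ^ m'
  let v := v₀ ^ m
  have hu : u ∈ 𝒜 (n : ℤ) := by
    have := SetLike.pow_mem_graded (A := 𝒜) m' hu₀
    simpa [n, u, mul_comm] using this
  have hv : v ∈ ℬ (n : ℤ) := by
    have := SetLike.pow_mem_graded (A := ℬ) m hv₀
    simpa [n, v] using this
  obtain ⟨P₂, hP₂, hdimE, hA, hB⟩ := exists_prime_tensor_full (k := k) (R := R ⧸ P) (S := S ⧸ Q)
    r s hPdim hQdim
  let E := ((R ⧸ P) ⊗[k] (S ⧸ Q)) ⧸ P₂
  let π : R ⊗[k] S →ₐ[k] E :=
    (Ideal.Quotient.mkₐ k P₂).comp
      (Algebra.TensorProduct.map (Ideal.Quotient.mkₐ k P) (Ideal.Quotient.mkₐ k Q))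
  have hπs : Function.Surjective π :=
    Ideal.Quotient.mk_surjective.comp (TensorProduct.map_surjective
      (show Function.Surjective (Ideal.Quotient.mkₐ k P).toLinearMap from Ideal.Quotient.mk_surjective)
      (show Function.Surjective (Ideal.Quotient.mkₐ k Q).toLinearMap from Ideal.Quotient.mk_surjective))
  let ub : E := π (u ⊗ₜ[k] 1)
  let vb : E := π ((1 : R) ⊗ₜ[k] v)
  have hub : ub ≠ 0 := by
    change Ideal.Quotient.mk P₂ _ ≠ 0
    rw [ne_eq, Ideal.Quotient.eq_zero_iff_mem]
    erw [Algebra.TensorProduct.map_tmul]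
    rw [map_one]
    refine hA _ ?_
    rw [Ideal.Quotient.mkₐ_eq_mk, ne_eq, Ideal.Quotient.eq_zero_iff_mem]
    exact fun h => hu₀P (Ideal.IsPrime.mem_of_pow_mem inferInstance _ h)
  have hvb : vb ≠ 0 := by
    change Ideal.Quotient.mk P₂ _ ≠ 0
    rw [ne_eq, Ideal.Quotient.eq_zero_iff_mem]
    erw [Algebra.TensorProduct.map_tmul]
    rw [map_one]
    refine hB _ ?_
    rw [Ideal.Quotient.mkₐ_eq_mk, ne_eq, Ideal.Quotient.eq_zero_iff_mem]
    exact fun h => hv₀Q (Ideal.IsPrime.mem_of_pow_mem inferInstance _ h)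
  haveI : Algebra.FiniteType k (R ⊗[k] S) :=
    Algebra.FiniteType.trans (inferInstance : Algebra.FiniteType k R)
      (inferInstance : Algebra.FiniteType R (R ⊗[k] S))
  haveI : Algebra.FiniteType k E := Algebra.FiniteType.of_surjective π hπs
  let T' : Subalgebra k E := (π.comp ψ).range
  haveI : Algebra.FiniteType k T' :=
    Algebra.FiniteType.of_surjective (π.comp ψ).rangeRestrict (AlgHom.rangeRestrict_surjective _)
  obtain ⟨tt, htt, htt'⟩ := DimTheory.exists_trdeg_eq k T'
  obtain ⟨ee, hee, hee'⟩ := DimTheory.exists_trdeg_eq k E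
  have hee2 : ee = r + s := by
    have := hee.symm.trans hdimE
    exact_mod_cast this
  have hle : (tt : WithBot ℕ∞) ≤ ringKrullDim T := htt ▸
    ringKrullDim_le_of_surjective (π.comp ψ).rangeRestrict.toRingHom (AlgHom.rangeRestrict_surjective _)
  have h2 : (r + s : Cardinal) ≤ (tt : Cardinal) + 1 := by
    have : ((ee : ℕ) : Cardinal) = (r : Cardinal) + s := by rw [hee2, Nat.cast_add]
    rw [← this, ← hee', ← htt']
    exact trdeg_le_succ 𝒜 ℬ 𝒯 ψ hdegT hposR hposS h0R h0S π hπs hn hu hv hub hvb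
  have h3 : r + s ≤ tt + 1 := by exact_mod_cast h2
  exact le_trans (by exact_mod_cast (by omega : r + s - 1 ≤ tt)) hle

theorem ringKrullDim_le (hψ : Function.Injective ψ) (r s : ℕ) (hr : ringKrullDim R = r)
    (hs : ringKrullDim S = s) :
    ringKrullDim T ≤ ((r + s - 1 : ℕ) : WithBot ℕ∞) := by
  classical
  haveI := finiteType 𝒜 ℬ 𝒯 ψ hdegT hψ hposR hposS
  refine dim_le_of_minimalPrimes fun p hp => ?_
  obtain ⟨P', hP', hcomap⟩ :=
    Ideal.exists_comap_eq_of_mem_minimalPrimes_of_injective (f := ψ.toRingHom) hψ p hp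
  obtain ⟨P₀, hP₀, hle⟩ := Ideal.exists_minimalPrimes_le (J := P') (bot_le : ⊥ ≤ P')
  haveI : P₀.IsPrime := hP₀.1.1
  have hcomap₀ : P₀.comap ψ.toRingHom = p :=
    le_antisymm (hcomap ▸ Ideal.comap_mono hle)
      (hp.2 ⟨inferInstance, bot_le⟩ (hcomap ▸ Ideal.comap_mono hle))
  let E := (R ⊗[k] S) ⧸ P₀
  let π : R ⊗[k] S →ₐ[k] E := Ideal.Quotient.mkₐ k P₀
  haveI : Algebra.FiniteType k (R ⊗[k] S) :=
    Algebra.FiniteType.trans (inferInstance : Algebra.FiniteType k R)
      (inferInstance : Algebra.FiniteType R (R ⊗[k] S))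
  haveI : Algebra.FiniteType k E := Algebra.FiniteType.of_surjective π Ideal.Quotient.mk_surjective
  let T' : Subalgebra k E := (π.comp ψ).range
  haveI : Algebra.FiniteType k T' :=
    Algebra.FiniteType.of_surjective (π.comp ψ).rangeRestrict (AlgHom.rangeRestrict_surjective _)
  have hdimTp : ringKrullDim (T ⧸ p) = ringKrullDim T' := by
    have hk : RingHom.ker (π.comp ψ).toRingHom = p := by
      rw [← hcomap₀]; ext x
      simp only [RingHom.mem_ker, Ideal.mem_comap]
      exact Ideal.Quotient.eq_zero_iff_mem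
    refine ringKrullDim_eq_of_ringEquiv ((Ideal.quotEquivOfEq hk.symm).trans ?_)
    exact RingHom.quotientKerEquivRange (π.comp ψ).toRingHom
  rw [hdimTp]
  have hE : ringKrullDim E ≤ ((r + s : ℕ) : WithBot ℕ∞) :=
    (ringKrullDim_quotient_le P₀).trans (dim_tensor r s hr hs).le
  exact dim_image_le 𝒜 ℬ 𝒯 ψ hdegT hposR hposS h0R h0S π
    (fun I hI hIle => by
      have hk : RingHom.ker π = P₀ := Ideal.mk_ker
      rw [hk] at hIle ⊢
      exact hP₀.2 ⟨hI, bot_le⟩ hIle) (r + s) hE

end Groth.Agent.GrSegreLib
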