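import Mathlib
import Groth.Agent.GrSegreLib.PosGr
import Groth.Agent.GrSegreLib.Gen
import Groth.Agent.GorenBasic.RingOps

/-! Segre products with a polynomial factor, and socles of one-dimensional Segre products. -/

set_option autoImplicit false
universe u
open scoped TensorProduct

namespace Groth.Agent.PosGr

variable {k : Type u} [Field k] {R : Type u} [CommRing R] [Algebra k R] (𝒜 : ℤ → Submodule k R) [GradedAlgebra 𝒜]
  {S : Type u} [CommRing S] [Algebra k S] (ℬ : ℤ → Submodule k S) [GradedAlgebra ℬ]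
  {T : Type u} [CommRing T] [Algebra k T] (𝒯 : ℤ → Submodule k T) [GradedAlgebra 𝒯]
  (ψ : T →ₐ[k] R ⊗[k] S)

section
variable (hψ : Function.Injective ψ)
  (hdegT : ∀ n : ℤ, (𝒯 n).map ψ.toLinearMap = Submodule.span k {x : R ⊗[k] S | ∃ a ∈ 𝒜 n, ∃ b ∈ ℬ n, x = a ⊗ₜ[k] b})
  (hposR : ∀ n : ℤ, n < 0 → 𝒜 n = ⊥) (h0R : 𝒜 0 = Submodule.span k {(1 : R)})

include hψ hdegT hposR in
theorem segre_pos : ∀ n : ℤ, n < 0 → 𝒯 n = ⊥ := by
    intro n hn
    apply Submodule.map_injective_of_injective (f := ψ.toLinearMap) hψ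
    rw [hdegT, Submodule.map_bot, Submodule.span_eq_bot]
    rintro _ ⟨a, ha, b, -, rfl⟩
    rw [eq_zero_of_neg 𝒜 hposR hn ha, TensorProduct.zero_tmul]

include hψ hdegT h0R in
theorem segre_zero (h0S : ℬ 0 = Submodule.span k {(1 : S)}) : 𝒯 0 = Submodule.span k {(1 : T)} := by
    apply Submodule.map_injective_of_injective (f := ψ.toLinearMap) hψ
    rw [hdegT, Submodule.map_span, Set.image_singleton]
    refine le_antisymm (Submodule.span_le.2 ?_) (Submodule.span_le.2 (Set.singleton_subset_iff.2 ?_))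
    · rintro _ ⟨a, ha, b, hb, rfl⟩
      obtain ⟨c, rfl⟩ := exists_algebraMap_eq 𝒜 h0R ha
      obtain ⟨d, rfl⟩ := exists_algebraMap_eq ℬ h0S hb
      refine Submodule.mem_span_singleton.2 ⟨c * d, ?_⟩
      rw [AlgHom.toLinearMap_apply, map_one, Algebra.algebraMap_eq_smul_one, Algebra.algebraMap_eq_smul_one,
        TensorProduct.smul_tmul_smul, Algebra.TensorProduct.one_def]
    · refine Submodule.subset_span ⟨1, SetLike.GradedOne.one_mem, 1, SetLike.GradedOne.one_mem, ?_⟩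
      simp [Algebra.TensorProduct.one_def]

include hdegT in
theorem segre_lift : ∀ (n : ℤ) (a : R) (b : S), a ∈ 𝒜 n → b ∈ ℬ n → ∃ t ∈ 𝒯 n, ψ t = a ⊗ₜ[k] b := by
    intro n a b ha hb
    have : a ⊗ₜ[k] b ∈ (𝒯 n).map ψ.toLinearMap := by
      rw [hdegT]; exact Submodule.subset_span ⟨a, ha, b, hb, rfl⟩
    obtain ⟨t, ht, hte⟩ := this
    exact ⟨t, ht, hte⟩

include hψ hdegT hposR h0R in
/-- With a polynomial first factor the Segre product is the second factor. -/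
theorem segre_equiv [Nontrivial R] (hstdR' : pos 𝒜 = Ideal.span ((𝒜 1 : Submodule k R) : Set R))
    (hposS : ∀ n : ℤ, n < 0 → ℬ n = ⊥) (φ : R ≃ₐ[k] Polynomial k) : Nonempty (T ≃+* S) := by
  have hlift := segre_lift 𝒜 ℬ 𝒯 ψ hdegT
  obtain ⟨y, hy, hyreg, h1⟩ := exists_generator_of_algEquiv 𝒜 hposR h0R hstdR' φ
  have hsp := mem_span_pow 𝒜 hposR h0R hstdR' hy h1
  let E := AlgEquiv.ofBijective _ (aeval_bijective 𝒜 hposR h0R hstdR' hy hyreg h1)
  let ρ : R →ₐ[k] k := (Polynomial.aeval (1 : k)).comp E.symm.toAlgHom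
  have hρ : ρ y = 1 := by
    have : E.symm y = Polynomial.X := by
      rw [AlgEquiv.symm_apply_eq]; simp [E]
    simp [ρ, this]
  let θ : T →ₐ[k] S := (Algebra.TensorProduct.lift ((Algebra.ofId k S).comp ρ) (AlgHom.id k S)
    (fun _ _ => Commute.all _ _)).comp ψ
  have hθ : ∀ (n : ℤ) (z : T), z ∈ 𝒯 n → θ z ∈ ℬ n ∧ (θ z = 0 → z = 0) := by
    intro n z hz
    have h1 : ψ z ∈ Submodule.span k {w : R ⊗[k] S | ∃ a ∈ 𝒜 n, ∃ b ∈ ℬ n, w = a ⊗ₜ[k] b} := by
      rw [← hdegT n]; exact ⟨z, hz, rfl⟩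
    have h2 : ∃ σ ∈ ℬ n, ψ z = (y ^ n.toNat) ⊗ₜ[k] σ := by
      generalize ψ z = w at h1 ⊢
      induction h1 using Submodule.span_induction with
      | mem w hw =>
        obtain ⟨a, ha, b, hb, rfl⟩ := hw
        by_cases hn : n < 0
        · exact ⟨0, zero_mem _, by rw [eq_zero_of_neg 𝒜 hposR hn ha]; simp⟩
        · obtain ⟨c, rfl⟩ := hsp n.toNat a (by rwa [show ((n.toNat : ℕ) : ℤ) = n by omega])
          exact ⟨c • b, Submodule.smul_mem _ c hb, by rw [TensorProduct.smul_tmul]⟩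
      | zero => exact ⟨0, zero_mem _, by simp⟩
      | add w w' _ _ hw hw' =>
        obtain ⟨σ, hσ, rfl⟩ := hw
        obtain ⟨σ', hσ', rfl⟩ := hw'
        exact ⟨σ + σ', add_mem hσ hσ', by rw [TensorProduct.tmul_add]⟩
      | smul c w _ hw =>
        obtain ⟨σ, hσ, rfl⟩ := hw
        exact ⟨c • σ, Submodule.smul_mem _ c hσ, by rw [TensorProduct.tmul_smul]⟩
    obtain ⟨σ, hσ, hzσ⟩ := h2
    have hval : θ z = σ := by simp [θ, hzσ, hρ]
    exact ⟨hval ▸ hσ, fun h => hψ (by rw [hzσ, ← hval, h, TensorProduct.tmul_zero, map_zero])⟩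
  have hbij : Function.Bijective θ := by
    constructor
    · refine (injective_iff_map_eq_zero θ).2 fun t ht => ?_
      obtain ⟨F, hF⟩ := exists_sum_cmp 𝒯 t
      rw [← hF]
      refine Finset.sum_eq_zero fun i hi => (hθ i _ (cmp_mem 𝒯 i t)).2 ?_
      have h := congrArg (cmp ℬ i) ht
      rw [← hF, map_sum, map_sum, map_zero, Finset.sum_eq_single i (fun j _ hj => by
        rw [cmp_of_mem ℬ (hθ j _ (cmp_mem 𝒯 j t)).1, if_neg hj]) (fun h' => absurd hi h'),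
        cmp_of_mem ℬ (hθ i _ (cmp_mem 𝒯 i t)).1, if_pos rfl] at h
      exact h
    · intro σ
      obtain ⟨F, hF⟩ := exists_sum_cmp ℬ σ
      rw [← AlgHom.mem_range, ← hF]
      refine Subalgebra.sum_mem _ fun i _ => ?_
      by_cases hi : i < 0
      · rw [eq_zero_of_neg ℬ hposS hi (cmp_mem ℬ i σ)]; exact Subalgebra.zero_mem _
      · have hyi : y ^ i.toNat ∈ 𝒜 i := by
          have h := SetLike.pow_mem_graded i.toNat hy
          rwa [nsmul_one, show ((i.toNat : ℕ) : ℤ) = i by omega] at h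
        obtain ⟨t, -, ht⟩ := hlift i _ _ hyi (cmp_mem ℬ i σ)
        exact ⟨t, by simp [θ, ht, hρ]⟩
  exact ⟨RingEquiv.ofBijective θ hbij⟩

end

/-- A standard graded one-dimensional ring with one-dimensional piece in some positive degree with a
regular element is a polynomial ring. -/
theorem polynomial_of_line [Nontrivial R] (hposR : ∀ n : ℤ, n < 0 → 𝒜 n = ⊥) (h0R : 𝒜 0 = Submodule.span k {(1 : R)})
    (hr : 1 ≤ ringKrullDim R) (hstdR' : pos 𝒜 = Ideal.span ((𝒜 1 : Submodule k R) : Set R))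
    (D : ℕ) (hDpos : 0 < D) (X : R) (hXreg : IsSMulRegular R X)
    (key : ∀ r ∈ 𝒜 (D : ℤ), ∃ c : k, r = c • X) : Nonempty (R ≃ₐ[k] Polynomial k) := by
  obtain ⟨y, hy, hynil⟩ := exists_not_nilpotent_deg_one 𝒜 hposR h0R hr hstdR'
  have hyD : y ^ D ∈ 𝒜 (D : ℤ) := by
    have h := SetLike.pow_mem_graded D hy
    rwa [nsmul_one] at h
  obtain ⟨c, hc⟩ := key _ hyD
  have hc0 : c ≠ 0 := fun h => hynil ⟨D, by rw [hc, h, zero_smul]⟩
  have hyreg : IsSMulRegular R y := by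
    refine (IsSMulRegular.pow_iff hDpos).1 ?_
    intro p q hpq
    simp only [smul_eq_mul, hc, smul_mul_assoc] at hpq
    exact hXreg (IsUnit.smul_left_cancel (isUnit_iff_ne_zero.2 hc0) |>.1 hpq)
  have h1 : ∀ z ∈ 𝒜 1, ∃ d : k, z = d • y := by
    intro z hz
    obtain ⟨D', hD'⟩ : ∃ D', D = D' + 1 := ⟨D - 1, by omega⟩
    have hzD : y ^ D' * z ∈ 𝒜 (D : ℤ) := by
      have h := SetLike.mul_mem_graded (SetLike.pow_mem_graded D' hy) hz
      rwa [nsmul_one, show (D' : ℤ) + 1 = D by rw [hD']; push_cast; ring] at h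
    obtain ⟨c', hc'⟩ := key _ hzD
    refine ⟨c' * c⁻¹, hyreg.pow D' ?_⟩
    show y ^ D' * z = y ^ D' * ((c' * c⁻¹) • y)
    rw [hc', mul_smul_comm, ← pow_succ, ← hD', hc, smul_smul, mul_assoc, inv_mul_cancel₀ hc0, mul_one]
  exact ⟨(AlgEquiv.ofBijective _ (aeval_bijective 𝒜 hposR h0R hstdR' hy hyreg h1)).symm⟩

/-- If a piece of positive degree is spanned by one element then so are all later ones. -/
theorem line_above [Nontrivial R] (hposR : ∀ n : ℤ, n < 0 → 𝒜 n = ⊥) (h0R : 𝒜 0 = Submodule.span k {(1 : R)})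
    (hr : 1 ≤ ringKrullDim R) (hstdR' : pos 𝒜 = Ideal.span ((𝒜 1 : Submodule k R) : Set R))
    {n : ℕ} (hn : 0 < n) (g : R) (h : ∀ a ∈ 𝒜 (n : ℤ), ∃ c : k, a = c • g) :
    ∃ y ∈ 𝒜 1, ¬ IsNilpotent y ∧ ∀ q : ℕ, n ≤ q → ∀ a ∈ 𝒜 (q : ℤ), ∃ c : k, a = c • y ^ q := by
  classical
  obtain ⟨y, hy, hynil⟩ := exists_not_nilpotent_deg_one 𝒜 hposR h0R hr hstdR'
  have hyn : ∀ q : ℕ, y ^ q ∈ 𝒜 (q : ℤ) := fun q => by
    have h := SetLike.pow_mem_graded q hy
    rwa [nsmul_one] at h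
  refine ⟨y, hy, hynil, fun q hq => ?_⟩
  induction q, hq using Nat.le_induction with
  | base =>
    intro a ha
    obtain ⟨c, hc⟩ := h _ (hyn n)
    have hc0 : c ≠ 0 := fun e => hynil ⟨n, by rw [hc, e, zero_smul]⟩
    obtain ⟨d, hd⟩ := h a ha
    exact ⟨d * c⁻¹, by rw [hc, smul_smul, mul_assoc, inv_mul_cancel₀ hc0, mul_one, hd]⟩
  | succ q hq ih =>
    intro a ha
    let L : Submodule k R := Submodule.span k {y ^ (q + 1)}
    suffices hL : ∀ x ∈ pos 𝒜, ∀ r : R, cmp 𝒜 ((q + 1 : ℕ) : ℤ) (r * x) ∈ L by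
      have h2 := hL a (mem_pos_of_mem 𝒜 (by omega) ha) 1
      rw [one_mul, cmp_of_mem 𝒜 ha, if_pos rfl, Submodule.mem_span_singleton] at h2
      obtain ⟨c, hc⟩ := h2
      exact ⟨c, hc.symm⟩
    intro x hx
    rw [hstdR'] at hx
    induction hx using Submodule.span_induction with
    | mem z hz =>
      intro r
      rw [mul_comm, cmp_mul_left 𝒜 hz]
      obtain ⟨c, hc⟩ := ih (cmp 𝒜 (((q + 1 : ℕ) : ℤ) - 1) r) (by
        have h3 := cmp_mem 𝒜 (((q + 1 : ℕ) : ℤ) - 1) r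
        rwa [show ((q + 1 : ℕ) : ℤ) - 1 = (q : ℤ) by push_cast; ring] at h3 ⊢)
      obtain ⟨p, rfl⟩ : ∃ p, q = p + 1 := ⟨q - 1, by omega⟩
      obtain ⟨c', hc'⟩ := ih (y ^ p * z) (by
        have h3 := SetLike.mul_mem_graded (hyn p) hz
        rwa [show (p : ℤ) + 1 = ((p + 1 : ℕ) : ℤ) by push_cast; ring] at h3)
      refine Submodule.mem_span_singleton.2 ⟨c * c', ?_⟩
      rw [hc, mul_smul_comm, pow_succ' y p, ← mul_assoc, mul_comm z y, mul_assoc, mul_comm z, hc',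
        mul_smul_comm, smul_smul, ← pow_succ']
    | zero => intro r; rw [mul_zero, map_zero]; exact L.zero_mem
    | add u v _ _ hu hv => intro r; rw [mul_add, map_add]; exact L.add_mem (hu r) (hv r)
    | smul t u _ hu => intro r; rw [smul_eq_mul, ← mul_assoc]; exact hu _

open IsLocalRing in
/-- The socle of a one-dimensional graded Gorenstein ring modulo a regular element is a line. -/
theorem socle_line {T : Type u} [CommRing T] [Algebra k T] (𝒯 : ℤ → Submodule k T) [GradedAlgebra 𝒯] [Nontrivial T]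
    (hpos : ∀ n : ℤ, n < 0 → 𝒯 n = ⊥) (h0 : 𝒯 0 = Submodule.span k {(1 : T)})
    [LocCoh.IsGorensteinRing T] (hd : ringKrullDim T ≤ 1) {a : T} (ha : a ∈ pos 𝒯) (hreg : IsSMulRegular T a)
    (b₁ b₂ : T) (h₁ : ∀ p ∈ pos 𝒯, p * b₁ ∈ Ideal.span {a}) (h₂ : ∀ p ∈ pos 𝒯, p * b₂ ∈ Ideal.span {a})
    (hb : b₁ ∉ Ideal.span {a}) : ∃ c : k, b₂ - c • b₁ ∈ Ideal.span {a} := by
  haveI hM := pos_isMaximal 𝒯 hpos h0
  let A := T ⧸ Ideal.span {a}
  let q := Ideal.Quotient.mk (Ideal.span {a})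
  have hker : RingHom.ker q ≤ pos 𝒯 := by
    rw [Ideal.mk_ker, Ideal.span_singleton_le_iff_mem]; exact ha
  haveI : ((pos 𝒯).map q).IsMaximal := Ideal.IsMaximal.map_of_surjective_of_ker_le Ideal.Quotient.mk_surjective hker
  have hc : ((pos 𝒯).map q).comap q = pos 𝒯 := by
    rw [Ideal.comap_map_of_surjective _ Ideal.Quotient.mk_surjective, ← RingHom.ker_eq_comap_bot]
    exact sup_eq_left.2 hker
  haveI hA := GorenBasic.isGorensteinRing_quotient hreg
  haveI hAP := hA.isGorensteinLocalRing_localization ((pos 𝒯).map q)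
  let L := Localization.AtPrime ((pos 𝒯).map q)
  have hA0 : Ring.KrullDimLE 0 A := by
    rw [Ring.krullDimLE_iff]
    have h1 : ringKrullDim A + 1 ≤ 1 := le_trans (ringKrullDim_quotient_succ_le_of_nonZeroDivisor
      (mem_nonZeroDivisors_iff_right.2 fun z hz => hreg (show a * z = a * 0 by rw [mul_zero, mul_comm, hz]))) hd
    cases hA' : ringKrullDim A with
    | bot => simp
    | coe v =>
      rw [hA', ← WithBot.coe_one, ← WithBot.coe_add, WithBot.coe_le_coe] at h1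
      have : v = 0 := by
        by_contra h
        have h2 : (1 : ℕ∞) + 1 ≤ v + 1 := add_le_add (Order.one_le_iff_ne_zero.2 h) le_rfl
        exact absurd (h2.trans h1) (by norm_num)
      rw [this]; simp
  haveI : IsNoetherianRing A := inferInstance
  haveI : IsArtinianRing A := IsNoetherianRing.isArtinianRing_of_krullDimLE_zero
  haveI : IsArtinianRing L := inferInstance
  have hL0 : ringKrullDim L = 0 := by
    haveI : Ring.KrullDimLE 0 L := isArtinianRing_iff_krullDimLE_zero.1 inferInstance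
    exact le_antisymm (Ring.krullDimLE_iff.1 inferInstance) ringKrullDim_nonneg_of_nontrivial
  have hss : GorenBasic.SimpleSocle L :=
    GorenBasic.injective_self_iff_simpleSocle.1 (GorenSG.injective_of_gorenstein hAP hL0)
  have hmk : ∀ x : T, x ∉ pos 𝒯 → q x ∈ ((pos 𝒯).map q).primeCompl := fun x hx h => hx (hc ▸ h)
  have hkill : ∀ b : T, (∀ p ∈ pos 𝒯, p * b ∈ Ideal.span {a}) →
      ∀ v ∈ maximalIdeal L, v * algebraMap A L (q b) = 0 := by
    intro b hb v hv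
    rw [← Localization.AtPrime.map_eq_maximalIdeal, Ideal.map_map] at hv
    induction hv using Submodule.span_induction with
    | mem x hx =>
      obtain ⟨p, hp, rfl⟩ := hx
      rw [RingHom.comp_apply, ← map_mul, ← map_mul, Ideal.Quotient.eq_zero_iff_mem.2 (hb p hp), map_zero]
    | zero => exact zero_mul _
    | add x y _ _ hx hy => rw [add_mul, hx, hy, add_zero]
    | smul c x _ hx => rw [smul_eq_mul, mul_assoc, hx, mul_zero]
  have hred : ∀ u : T, u ∉ pos 𝒯 → ∃ c : k, c ≠ 0 ∧ ∀ b : T, (∀ p ∈ pos 𝒯, p * b ∈ Ideal.span {a}) →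
      u * b - c • b ∈ Ideal.span {a} := by
    intro u hu
    obtain ⟨c, -, hc'⟩ := exists_sub_mem_pos 𝒯 hpos h0 u
    refine ⟨c, fun e => hu (by simpa [e] using hc'), fun b hb => ?_⟩
    rw [Algebra.smul_def, ← sub_mul]
    exact hb _ hc'
  have hy0 : algebraMap A L (q b₁) ≠ 0 := by
    intro h
    obtain ⟨⟨m, hm⟩, hmb⟩ := (IsLocalization.map_eq_zero_iff ((pos 𝒯).map q).primeCompl L _).1 h
    obtain ⟨u, rfl⟩ := Ideal.Quotient.mk_surjective m
    obtain ⟨c, hc0, hcb⟩ := hred u fun hu => hm (Ideal.mem_map_of_mem q hu)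
    have hmb' : u * b₁ ∈ Ideal.span {a} := Ideal.Quotient.eq_zero_iff_mem.1 (by rw [map_mul]; exact hmb)
    have := (Ideal.span {a}).sub_mem hmb' (hcb b₁ h₁)
    rw [sub_sub_cancel] at this
    exact hb (by simpa [inv_smul_smul₀ hc0] using Submodule.smul_of_tower_mem _ c⁻¹ this)
  obtain ⟨r, hr⟩ := hss _ _ (hkill b₁ h₁) (hkill b₂ h₂) hy0
  obtain ⟨x', ⟨s', hs'⟩, rfl⟩ := IsLocalization.exists_mk'_eq ((pos 𝒯).map q).primeCompl r
  obtain ⟨x, rfl⟩ := Ideal.Quotient.mk_surjective x'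
  obtain ⟨s, rfl⟩ := Ideal.Quotient.mk_surjective s'
  have h3 : algebraMap A L (q (s * b₂ - x * b₁)) = 0 := by
    rw [map_sub, map_mul, map_mul, map_sub, map_mul, map_mul, hr, ← mul_assoc,
      IsLocalization.mk'_spec' L (q x) (⟨q s, hs'⟩ : ((pos 𝒯).map q).primeCompl), sub_self]
  obtain ⟨⟨m, hm⟩, hmb⟩ := (IsLocalization.map_eq_zero_iff ((pos 𝒯).map q).primeCompl L _).1 h3
  obtain ⟨u, rfl⟩ := Ideal.Quotient.mk_surjective m
  have hu : u ∉ pos 𝒯 := fun hu => hm (Ideal.mem_map_of_mem q hu)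
  have hsn : s ∉ pos 𝒯 := fun h => hs' (Ideal.mem_map_of_mem q h)
  obtain ⟨c, hc0, hcb⟩ := hred (u * s) fun h => (hM.isPrime.mem_or_mem h).elim hu hsn
  obtain ⟨e, -, he⟩ := exists_sub_mem_pos 𝒯 hpos h0 (u * x)
  have hmb' : u * (s * b₂ - x * b₁) ∈ Ideal.span {a} := Ideal.Quotient.eq_zero_iff_mem.1 (by rw [map_mul]; exact hmb)
  refine ⟨c⁻¹ * e, ?_⟩
  have h4 : c • b₂ - e • b₁ ∈ Ideal.span {a} := by
    have h5 : u * x * b₁ - e • b₁ ∈ Ideal.span {a} := by
      rw [Algebra.smul_def, ← sub_mul]; exact h₁ _ he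
    have := (Ideal.span {a}).add_mem ((Ideal.span {a}).sub_mem hmb' (hcb b₂ h₂)) h5
    convert this using 1
    ring
  have h6 := Submodule.smul_of_tower_mem (Ideal.span {a}) c⁻¹ h4
  rwa [smul_sub, inv_smul_smul₀ hc0, smul_smul] at h6

end Groth.Agent.PosGr
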